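import Cfsg.Agent.ClassSizePSL.General

/-!
# Counting in the central quotient
-/

set_option autoImplicit false
set_option linter.unusedSectionVars false
set_option linter.style.haveILetI false

namespace Cfsg.Lib.ClassSizePSL

open Subgroup Cfsg.Lib.ClassSize

universe u

variable {P : Type u} [Group P]

/-- The centraliser order. -/
noncomputable abbrev cc (x : P) : ℕ := Nat.card (centralizer ({x} : Set P))

theorem mem_cls_self (x : P) : x ∈ cls x := ⟨1, by simp⟩

variable [Finite P]

theorem cc_mul_cs (x : P) : cc x * cs x = Nat.card P := card_mul_index _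

theorem cs_eq_of_cc {x : P} {c n : ℕ} (h : cc x = c) (hn : c * n = Nat.card P) : cs x = n := by
  refine Nat.eq_of_mul_eq_mul_left (n := cc x) Nat.card_pos ?_
  rw [cc_mul_cs, h, hn]

theorem cc_conj (g x : P) : cc (g * x * g⁻¹) = cc x := by
  rw [cc, cent_conj, card_map_of_injective (MulEquiv.injective _)]

theorem dvd_ncard_of_invariant' {n : ℕ} (S : Set P) (hinv : ∀ x ∈ S, ∀ g : P, g * x * g⁻¹ ∈ S)
    (hn : ∀ x ∈ S, n ∣ cs x) : n ∣ S.ncard := by
  induction h : S.ncard using Nat.strong_induction_on generalizing S with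
  | _ m ih =>
    rcases S.eq_empty_or_nonempty with rfl | ⟨x, hx⟩
    · rw [Set.ncard_empty] at h; subst h; exact dvd_zero n
    have hsub : cls x ⊆ S := by rintro _ ⟨g, rfl⟩; exact hinv x hx g
    have hc : (cls x).ncard = cs x := by rw [← Nat.card_coe_set_eq, card_cls]
    have hd := Set.ncard_sdiff_add_ncard_of_subset hsub
    have hpos : 0 < (cls x).ncard := (Set.ncard_pos (Set.toFinite _)).2 ⟨x, mem_cls_self x⟩
    rw [h] at hd
    have hdvd := ih (S \ cls x).ncard (by omega) (S \ cls x) (fun y hy g => ⟨hinv y hy.1 g, fun hm => by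
        obtain ⟨a, ha⟩ := hm
        exact hy.2 ⟨g⁻¹ * a, by
          simp only at ha ⊢
          rw [show g⁻¹ * a * x * (g⁻¹ * a)⁻¹ = g⁻¹ * (a * x * a⁻¹) * g by group, ha]; group⟩⟩)
      (fun y hy => hn y hy.1) rfl
    rw [← hd, hc]
    exact Nat.dvd_add hdvd (hn x hx)

theorem dvd_ncard_of_invariant {n : ℕ} (S : Set P) (hinv : ∀ x ∈ S, ∀ g : P, g * x * g⁻¹ ∈ S)
    (hn : ∀ x ∈ S, cs x = n) : n ∣ S.ncard :=
  dvd_ncard_of_invariant' S hinv fun x hx => (hn x hx).symm.dvd

theorem eq_cls_of_ncard {n : ℕ} (S : Set P) (hinv : ∀ x ∈ S, ∀ g : P, g * x * g⁻¹ ∈ S)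
    (hn : ∀ x ∈ S, cs x = n) (hcard : S.ncard = n) {x : P} (hx : x ∈ S) : S = cls x := by
  refine (Set.eq_of_subset_of_ncard_le (by rintro _ ⟨g, rfl⟩; exact hinv x hx g) ?_).symm
  rw [hcard, ← Nat.card_coe_set_eq, card_cls, hn x hx]

/-- A centraliser of odd prime power order, coprime to its index, is abelian when half as many
elements as the index times its non-trivial elements have centralisers of this order. -/
theorem abelian_of_count {x : P} {p c : ℕ} [Fact p.Prime] (hc : cc x = c) (hodd : Odd c)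
    (hp : IsPGroup p (centralizer ({x} : Set P)))
    (hcop : c.Coprime (centralizer ({x} : Set P)).index)
    (hi : (centralizer ({x} : Set P)).index ≠ 1)
    (hcount : 2 * {y : P | cc y = c}.ncard = (centralizer ({x} : Set P)).index * (c - 1)) :
    ∀ a ∈ centralizer ({x} : Set P), ∀ b ∈ centralizer ({x} : Set P), Commute a b := by
  classical
  set K := centralizer ({x} : Set P) with hK
  by_contra hna
  set Zc := (center K).map K.subtype with hZc
  have hzc : 3 * Nat.card Zc ≤ c := by
    have h1 : Nat.card Zc * (center K).index = c := by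
      rw [hZc, card_map_of_injective K.subtype_injective, card_mul_index]; exact hc
    have h2 : (center K).index ≠ 1 := by
      rw [ne_eq, index_eq_one]
      intro e
      exact hna fun a ha b hb => congrArg Subtype.val
        (mem_center_iff.1 (e.symm ▸ mem_top (⟨b, hb⟩ : K) : (⟨b, hb⟩ : K) ∈ center K) ⟨a, ha⟩)
    have h3 : Odd (center K).index := hodd.of_dvd_nat ⟨_, by rw [mul_comm, h1]⟩
    obtain ⟨i, hi⟩ := h3
    rw [← h1, mul_comm 3]
    exact Nat.mul_le_mul_left _ (by omega)
  have hle : {y : P | cc y = c} ⊆ (fun t : (P ⧸ K) × ((Zc : Set P) \ {1} : Set P) =>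
      t.1.out * (t.2 : P) * t.1.out⁻¹) '' Set.univ := by
    intro y hy
    have hy1 : y ≠ 1 := by
      rintro rfl
      have e : Nat.card P = c := by
        rw [← hy]
        show _ = cc (1 : P)
        rw [cc, show centralizer ({1} : Set P) = ⊤ from
          eq_top_iff.2 fun a _ => mem_cent.2 (Commute.one_right a), card_top]
      have hK1 : K.index = 1 := by
        have := K.card_mul_index
        rw [show Nat.card K = c from hc, e] at this
        exact (Nat.mul_eq_left (Nat.pos_iff_ne_zero.1 (hc ▸ Nat.card_pos))).1 this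
      exact hi hK1
    set L := centralizer ({y} : Set P) with hL
    have hLc : Nat.card L = Nat.card K := hy.trans hc.symm
    have hLp : IsPGroup p L := IsPGroup.iff_card.2 (hLc ▸ IsPGroup.iff_card.1 hp)
    have hKf : Nat.card K = p ^ (Nat.card P).factorization p := by
      obtain ⟨j, hj⟩ := IsPGroup.iff_card.1 hp
      rcases Nat.eq_zero_or_pos j with hj0 | hjpos
      · exfalso
        rw [hj0, pow_zero] at hj
        have hc1 : c = 1 := hc ▸ hj
        have : 1 ≤ Nat.card Zc := Nat.card_pos
        omega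
      have hpi : ¬ p ∣ K.index := fun hd => (Fact.out : p.Prime).ne_one
        (Nat.eq_one_of_dvd_coprimes hcop
          (by rw [← hc]; show p ∣ Nat.card K; rw [hj]; exact dvd_pow_self _ hjpos.ne') hd)
      rw [← K.card_mul_index, Nat.factorization_mul Nat.card_pos.ne' index_ne_zero_of_finite,
        Finsupp.add_apply, Nat.factorization_eq_zero_of_not_dvd hpi, add_zero, hj,
        (Fact.out : p.Prime).factorization_pow, Finsupp.single_eq_same]
    let SK : Sylow p P := Sylow.ofCard K hKf
    let SL' : Sylow p P := Sylow.ofCard L (hLc.trans hKf)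
    obtain ⟨g, hg⟩ := MulAction.exists_smul_eq P SK SL'
    have hconj : L = K.map (MulAut.conj g).toMonoidHom := by
      have e := congrArg (fun T : Sylow p P => (T : Subgroup P)) hg
      simp only [Sylow.coe_subgroup_smul] at e
      exact e.symm
    have hyc : g⁻¹ * y * g ∈ Zc := by
      have hyK : g⁻¹ * y * g ∈ K := by
        have : y ∈ K.map (MulAut.conj g).toMonoidHom := hconj ▸ mem_cent.2 (Commute.refl y)
        rwa [mem_map_equiv, MulAut.conj_symm_apply] at this
      refine ⟨⟨_, hyK⟩, mem_center_iff.2 fun b => Subtype.ext ?_, rfl⟩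
      have hb : g * b * g⁻¹ ∈ L := hconj ▸ ⟨b, b.2, rfl⟩
      have := (mem_cent.1 hb).eq
      show (b : P) * (g⁻¹ * y * g) = g⁻¹ * y * g * b
      calc (b : P) * (g⁻¹ * y * g) = g⁻¹ * (g * b * g⁻¹ * y) * g := by group
        _ = g⁻¹ * (y * (g * b * g⁻¹)) * g := by rw [this]
        _ = g⁻¹ * y * g * b := by group
    obtain ⟨η, hη⟩ := QuotientGroup.mk_out_eq_mul K g
    refine ⟨((g : P ⧸ K), ⟨g⁻¹ * y * g, hyc, fun e => hy1 ?_⟩), trivial, ?_⟩
    · rw [Set.mem_singleton_iff] at e
      calc y = g * (g⁻¹ * y * g) * g⁻¹ := by group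
        _ = 1 := by rw [e]; group
    · simp only
      rw [hη]
      have hc' : Commute (η : P) (g⁻¹ * y * g) := by
        obtain ⟨⟨z, hz⟩, hzc, hze⟩ := hyc
        simp only [coe_subtype] at hze
        rw [← hze]
        exact congrArg Subtype.val (mem_center_iff.1 hzc η)
      calc g * (η : P) * (g⁻¹ * y * g) * (g * (η : P))⁻¹
          = g * ((η : P) * (g⁻¹ * y * g)) * (η : P)⁻¹ * g⁻¹ := by group
        _ = g * ((g⁻¹ * y * g) * (η : P)) * (η : P)⁻¹ * g⁻¹ := by rw [hc'.eq]
        _ = y := by group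
  have h1 := (Set.ncard_le_ncard hle).trans (Set.ncard_image_le (s := Set.univ))
  rw [Set.ncard_univ, Nat.card_prod, Nat.card_coe_set_eq,
    Set.ncard_sdiff_singleton_of_mem (by exact one_mem Zc), ← Nat.card_coe_set_eq] at h1
  change _ ≤ K.index * (Nat.card Zc - 1) at h1
  have h2 : K.index * (c - 1) ≤ K.index * (2 * (Nat.card Zc - 1)) := by
    rw [← hcount, mul_left_comm]; exact Nat.mul_le_mul_left 2 h1
  have h3 := Nat.le_of_mul_le_mul_left h2 (Nat.pos_of_ne_zero index_ne_zero_of_finite)
  have h4 : 0 < Nat.card Zc := Nat.card_pos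
  omega

end Cfsg.Lib.ClassSizePSL
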