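import Cfsg.Agent.ClassSizePSL.Count
import Cfsg.Agent.S1230

/-!
# Class sizes of `PSL(2,q)`, `q` even
-/

set_option autoImplicit false
set_option linter.unusedSectionVars false
set_option linter.style.haveILetI false

namespace Cfsg.Lib.ClassSizePSL.Even

open Subgroup Cfsg.Lib.ClassSize Cfsg.Lib.ClassSizePSL

universe u

variable {P : Type u} [Group P] [Finite P]

theorem main_quot {r : ℕ} (hodd : Odd r) (h3 : 3 ≤ r) (hcard : Nat.card P = (r + 1) * r * (r + 2))
    (hc : ∀ x : P, x ≠ 1 → cc x = r + 1 ∨ cc x = r ∨ cc x = r + 2)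
    (hd : ∀ x : P, x ≠ 1 → (∀ a ∈ centralizer ({x} : Set P), ∀ b ∈ centralizer ({x} : Set P), Commute a b) ∨
      ∃ p : ℕ, p.Prime ∧ IsPGroup p (centralizer ({x} : Set P))) :
    (∀ x : P, x ≠ 1 → ∀ a ∈ centralizer ({x} : Set P), ∀ b ∈ centralizer ({x} : Set P), Commute a b) ∧
    ∃ (F : Type) (_ : Field F) (_ : Fintype F), Fintype.card F = r + 1 ∧
      Nonempty (P ≃* Matrix.ProjectiveSpecialLinearGroup (Fin 2) F) := by
  obtain ⟨r0, hr0⟩ := hodd
  have hc1 : cc (1 : P) = Nat.card P := by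
    rw [cc, show centralizer ({1} : Set P) = ⊤ from
      eq_top_iff.2 fun a _ => mem_cent.2 (Commute.one_right a), card_top]
  have hbig : r + 2 < Nat.card P := by
    rw [hcard]
    calc r + 2 < 2 * (r + 2) := by omega
      _ ≤ (r + 1) * r * (r + 2) := Nat.mul_le_mul_right _ (le_trans (by omega) (Nat.le_mul_of_pos_right _ (by omega)))
  have hne : ∀ {x : P} {c : ℕ}, cc x = c → c ≤ r + 2 → x ≠ 1 := by
    rintro x c h hle rfl; rw [hc1] at h; omega
  set S1 := {x : P | cc x = r + 1} with hS1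
  set S2 := {x : P | cc x = r} with hS2
  set S3 := {x : P | cc x = r + 2} with hS3
  have hinv : ∀ c : ℕ, ∀ x ∈ {x : P | cc x = c}, ∀ g : P, g * x * g⁻¹ ∈ {x : P | cc x = c} :=
    fun c x hx g => (cc_conj g x).trans hx
  obtain ⟨m1, hm1⟩ := dvd_ncard_of_invariant (n := r * (r + 2)) S1 (hinv _)
    (fun x hx => cs_eq_of_cc hx (by rw [hcard]; ring))
  obtain ⟨m2, hm2⟩ := dvd_ncard_of_invariant (n := (r + 1) * (r + 2)) S2 (hinv _)
    (fun x hx => cs_eq_of_cc hx (by rw [hcard]; ring))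
  obtain ⟨m3, hm3⟩ := dvd_ncard_of_invariant (n := (r + 1) * r) S3 (hinv _)
    (fun x hx => cs_eq_of_cc hx (by rw [hcard]; ring))
  have htot : S1.ncard + S2.ncard + S3.ncard + 1 = Nat.card P := by
    rw [← Set.ncard_union_eq (Set.disjoint_left.2 fun x h1 h2 => by
        simp only [hS1, hS2, Set.mem_setOf_eq] at h1 h2; omega),
      ← Set.ncard_union_eq (Set.disjoint_left.2 fun x h1 h2 => by
        simp only [hS1, hS2, hS3, Set.mem_union, Set.mem_setOf_eq] at h1 h2; omega),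
      ← Set.ncard_singleton (1 : P), ← Set.ncard_union_eq (Set.disjoint_left.2 fun x h1 h2 => by
        rw [Set.mem_singleton_iff] at h2; subst h2
        simp only [hS1, hS2, hS3, Set.mem_union, Set.mem_setOf_eq] at h1; omega), ← Set.ncard_univ]
    congr 1
    ext x
    simp only [hS1, hS2, hS3, Set.mem_union, Set.mem_setOf_eq, Set.mem_singleton_iff, Set.mem_univ,
      iff_true]
    by_cases hx : x = 1
    · exact .inr hx
    · rcases hc x hx with h | h | h
      · exact .inl (.inl (.inl h))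
      · exact .inl (.inl (.inr h))
      · exact .inl (.inr h)
  rw [hm1, hm2, hm3, hcard] at htot
  -- congruences
  have e1 : 1 ≤ m1 := by
    rcases Nat.eq_zero_or_pos m1 with h0 | h
    · exfalso
      subst h0
      have : (r + 1) ∣ 1 := (Nat.dvd_add_right (b := (r + 1) * ((r + 2) * m2 + r * m3))
        (dvd_mul_right _ _)).1 (by
          rw [show (r + 1) * ((r + 2) * m2 + r * m3) + 1 = (r + 1) * r * (r + 2) by rw [← htot]; ring]
          exact ⟨r * (r + 2), by ring⟩)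
      have := Nat.le_of_dvd one_pos this
      omega
    · exact h
  have e2 : r ≤ 2 * m2 + 1 := Nat.le_of_dvd (by omega)
    ((Nat.dvd_add_right (b := r * ((r + 2) * m1 + (r + 3) * m2 + (r + 1) * m3)) (dvd_mul_right _ _)).1 (by
      rw [show r * ((r + 2) * m1 + (r + 3) * m2 + (r + 1) * m3) + (2 * m2 + 1)
        = (r + 1) * r * (r + 2) by rw [← htot]; ring]
      exact ⟨(r + 1) * (r + 2), by ring⟩))
  have e3 : r + 2 ≤ 2 * m3 + 1 := by
    refine Nat.le_of_dvd (by omega) ?_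
    obtain ⟨a, rfl⟩ : ∃ a, r = a + 1 := ⟨r - 1, by omega⟩
    refine (Nat.dvd_add_right (b := (a + 1 + 2) * ((a + 1) * m1 + (a + 1 + 1) * m2 + a * m3))
      (dvd_mul_right _ _)).1 ?_
    rw [show (a + 1 + 2) * ((a + 1) * m1 + (a + 1 + 1) * m2 + a * m3) + (2 * m3 + 1)
        = (a + 1 + 1) * (a + 1) * (a + 1 + 2) by rw [← htot]; ring]
    exact ⟨(a + 1 + 1) * (a + 1), by ring⟩
  have hm : m1 = 1 ∧ 2 * m2 + 1 = r ∧ 2 * m3 = r + 1 := by
    subst hr0
    obtain ⟨u, rfl⟩ := Nat.exists_eq_add_of_le e1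
    obtain ⟨v, rfl⟩ : ∃ v, m2 = r0 + v := ⟨m2 - r0, by omega⟩
    obtain ⟨w, rfl⟩ : ∃ w, m3 = r0 + 1 + w := ⟨m3 - (r0 + 1), by omega⟩
    have hz : (2 * r0 + 1) * (2 * r0 + 1 + 2) * u + (2 * r0 + 1 + 1) * (2 * r0 + 1 + 2) * v
        + (2 * r0 + 1 + 1) * (2 * r0 + 1) * w = 0 := by nlinarith [htot]
    simp only [Nat.add_eq_zero_iff, mul_eq_zero] at hz
    omega
  -- the involutions
  haveI : Fact (Nat.Prime 2) := ⟨Nat.prime_two⟩
  obtain ⟨t, ht⟩ := exists_prime_orderOf_dvd_card' (G := P) 2 (by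
    rw [hcard]; exact (Dvd.dvd.mul_right (Dvd.dvd.mul_right (⟨r0 + 1, by omega⟩ : 2 ∣ r + 1) _) _))
  have h2 : ∀ {x : P}, x ≠ 1 → 2 ∣ cc x → cc x = r + 1 := by
    intro x hx hdiv
    rcases hc x hx with h | h | h <;> [exact h; skip; skip] <;> rw [h] at hdiv <;> omega
  have ht1 : t ≠ 1 := fun e => by rw [e, orderOf_one] at ht; omega
  have htS : t ∈ S1 := h2 ht1 (ht ▸ Subgroup.orderOf_dvd_natCard _ (mem_cent.2 (Commute.refl t)))
  have hS1 : S1 = cls t := eq_cls_of_ncard (n := r * (r + 2)) S1 (hinv _)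
    (fun x hx => cs_eq_of_cc hx (by rw [hcard]; ring)) (by rw [hm1, hm.1, mul_one]) htS
  have hsq : ∀ {x : P}, x ∈ S1 → x * x = 1 := by
    intro x hx
    rw [hS1] at hx
    obtain ⟨g, rfl⟩ := hx
    have htt : t * t = 1 := by rw [← pow_two, ← ht, pow_orderOf_eq_one]
    show g * t * g⁻¹ * (g * t * g⁻¹) = 1
    rw [show g * t * g⁻¹ * (g * t * g⁻¹) = g * (t * t) * g⁻¹ by group, htt, mul_one, mul_inv_cancel]
  set A := centralizer ({t} : Set P) with hA
  have hAsq : ∀ u ∈ A, u * u = 1 := by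
    intro u hu
    by_cases hu1 : u = 1
    · rw [hu1, mul_one]
    · exact hsq (h2 hu1 (ht ▸ Subgroup.orderOf_dvd_natCard _ (mem_cent_comm.1 hu)))
  have hAab : ∀ a ∈ A, ∀ b ∈ A, a * b = b * a := by
    intro a ha b hb
    have e : ∀ x ∈ A, x⁻¹ = x := fun x hx => inv_eq_of_mul_eq_one_left (hAsq x hx)
    calc a * b = (a * b)⁻¹ := (e _ (mul_mem ha hb)).symm
      _ = b * a := by rw [mul_inv_rev, e a ha, e b hb]
  have hAp : IsPGroup 2 A := fun x => ⟨1, Subtype.ext (by
    rw [SubgroupClass.coe_pow, pow_one, pow_two]; exact hAsq x x.2)⟩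
  have hAcard : Nat.card A = r + 1 := htS
  have hAi : ¬ 2 ∣ A.index := by
    rw [show A.index = r * (r + 2) from cs_eq_of_cc htS (by rw [hcard]; ring)]
    intro hd
    rcases Nat.prime_two.dvd_mul.1 hd with h | h <;> omega
  set T : Sylow 2 P := hAp.toSylow hAi with hT
  have hTA : (T : Subgroup P) = A := by rw [hT, IsPGroup.toSylow_coe]
  have hnc : ¬ IsCyclic (T : Subgroup P) := by
    rw [hTA]
    intro hcyc
    have he : Monoid.exponent A ∣ 2 := Monoid.exponent_dvd_of_forall_pow_eq_one fun x =>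
      Subtype.ext (by rw [SubgroupClass.coe_pow, pow_two]; exact hAsq x x.2)
    rw [IsCyclic.exponent_eq_card, hAcard] at he
    have := Nat.le_of_dvd two_pos he
    omega
  have hnn : ¬ (T : Subgroup P).Normal := by
    rw [hTA]
    intro hn
    have hsub : S1 ⊆ (A : Set P) := by
      rw [hS1]
      rintro _ ⟨g, rfl⟩
      exact hn.conj_mem t (mem_cent.2 (Commute.refl t)) g
    have hle := Set.ncard_le_ncard hsub
    rw [hm1, hm.1, mul_one, ← Nat.card_coe_set_eq] at hle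
    change _ ≤ Nat.card A at hle
    rw [hAcard] at hle
    nlinarith
  have hC : ∀ s : P, orderOf s = 2 → IsMulCommutative (centralizer ({s} : Set P)) ∧
      ∀ c ∈ centralizer ({s} : Set P), c ^ 2 = 1 := by
    intro s hs
    have hs1 : s ≠ 1 := fun e => by rw [e, orderOf_one] at hs; omega
    have hsS : s ∈ S1 := h2 hs1 (hs ▸ Subgroup.orderOf_dvd_natCard _ (mem_cent.2 (Commute.refl s)))
    rw [hS1] at hsS
    obtain ⟨g, rfl⟩ := hsS
    have key : ∀ c ∈ centralizer ({g * t * g⁻¹} : Set P), ∃ a ∈ A, g * a * g⁻¹ = c := by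
      intro c hc
      rw [cent_conj] at hc
      obtain ⟨a, ha, rfl⟩ := hc
      exact ⟨a, ha, rfl⟩
    refine ⟨⟨⟨fun a b => Subtype.ext ?_⟩⟩, fun c hc => ?_⟩
    · obtain ⟨a', ha', ea⟩ := key a a.2
      obtain ⟨b', hb', eb⟩ := key b b.2
      show (a : P) * b = b * a
      rw [← ea, ← eb, show g * a' * g⁻¹ * (g * b' * g⁻¹) = g * (a' * b') * g⁻¹ by group, hAab a' ha' b' hb']
      group
    · obtain ⟨a', ha', rfl⟩ := key c hc
      rw [pow_two, show g * a' * g⁻¹ * (g * a' * g⁻¹) = g * (a' * a') * g⁻¹ by group, hAsq a' ha',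
        mul_one, mul_inv_cancel]
  obtain ⟨F, iF, iFt, hF, he⟩ := Cfsg.Agent.S1230.result T hnc hnn hC
  refine ⟨fun x hx => ?_, F, iF, iFt, by rw [hF, hTA, hAcard], he⟩
  rcases hc x hx with h | h | h
  · intro a ha b hb
    have hxS : x ∈ S1 := h
    rw [hS1] at hxS
    obtain ⟨g, rfl⟩ := hxS
    rw [cent_conj, mem_map_equiv] at ha hb
    exact (MulAut.conj g).symm.injective (by rw [map_mul, map_mul]; exact hAab _ ha _ hb)
  all_goals
    rcases hd x hx with hab | ⟨p, hp, hpg⟩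
    · exact hab
    haveI := Fact.mk hp
  · have hi : (centralizer ({x} : Set P)).index = (r + 1) * (r + 2) :=
      cs_eq_of_cc h (by rw [hcard]; ring)
    refine abelian_of_count h ⟨r0, hr0⟩ hpg ?_ ?_ ?_
    · rw [hi]
      refine Nat.Coprime.mul_right ?_ ?_
      · exact Nat.coprime_self_add_right.2 (Nat.coprime_one_right r)
      · exact Nat.coprime_self_add_right.2 (Nat.coprime_two_right.2 ⟨r0, hr0⟩)
    · rw [hi]; exact (Nat.one_lt_mul_iff.2 ⟨by omega, by omega, .inl (by omega)⟩).ne'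
    · rw [hi, ← hS2, hm2, show r - 1 = 2 * m2 by omega]; ring
  · have hi : (centralizer ({x} : Set P)).index = (r + 1) * r :=
      cs_eq_of_cc h (by rw [hcard]; ring)
    refine abelian_of_count h ⟨r0 + 1, by omega⟩ hpg ?_ ?_ ?_
    · rw [hi]
      refine Nat.Coprime.mul_right ?_ ?_
      · rw [show r + 2 = r + 1 + 1 from rfl]
        exact Nat.coprime_self_add_left.2 (Nat.coprime_one_left _)
      · exact Nat.coprime_self_add_left.2 (Nat.coprime_two_left.2 ⟨r0, hr0⟩)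
    · rw [hi]; exact (Nat.one_lt_mul_iff.2 ⟨by omega, by omega, .inl (by omega)⟩).ne'
    · rw [hi, ← hS3, hm3, show r + 2 - 1 = 2 * m3 by omega]; ring

end Cfsg.Lib.ClassSizePSL.Even
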