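import Cfsg.Agent.ClassSize.Basic
import Cfsg.Agent.Known.Laws

/-!
# Class sizes of `PSL(2,q)`: isolated class sizes, centralisers modulo the centre

An element is isolated when its class size neither properly divides nor is a proper multiple of
another class size of a non-central element.
-/

set_option autoImplicit false
set_option linter.unusedSectionVars false
set_option linter.style.haveILetI false

namespace Cfsg.Lib.ClassSizePSL

open Subgroup Cfsg.Lib.ClassSize

universe u

variable {G : Type u} [Group G]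

/-- The order of the centraliser modulo the centre. -/
noncomputable abbrev cz (x : G) : ℕ := (center G).relIndex (centralizer ({x} : Set G))

/-- The order of the centraliser of the image modulo the centre. -/
noncomputable abbrev cq (x : G) : ℕ :=
  Nat.card (centralizer ({(x : G ⧸ center G)} : Set (G ⧸ center G)))

theorem cz_mul_cs (x : G) : cz x * cs x = (center G).index :=
  relIndex_mul_index (center_le_centralizer (G := G) ({x} : Set G))

theorem cs_dvd_index (x : G) : cs x ∣ (center G).index := ⟨cz x, by rw [mul_comm, cz_mul_cs]⟩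

/-- The class size does not properly divide and is no proper multiple of another one. -/
def Iso (x : G) : Prop :=
  x ∉ center G ∧ ∀ y : G, y ∉ center G → (cs y ∣ cs x ∨ cs x ∣ cs y) → cs y = cs x

variable [Finite G]

theorem Iso.eq_of_le {x y : G} (hx : Iso x) (hy : y ∉ center G)
    (h : centralizer ({x} : Set G) ≤ centralizer ({y} : Set G)) :
    centralizer ({y} : Set G) = centralizer ({x} : Set G) := by
  have e := hx.2 y hy (.inl (index_dvd_of_le h))
  refine (eq_of_le_of_card_ge h ?_).symm
  have h1 := (centralizer ({x} : Set G)).card_mul_index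
  rw [← (centralizer ({y} : Set G)).card_mul_index] at h1
  rw [show (centralizer ({y} : Set G)).index = (centralizer ({x} : Set G)).index from e] at h1
  exact (Nat.eq_of_mul_eq_mul_right (Nat.pos_of_ne_zero index_ne_zero_of_finite) h1).ge

theorem Iso.cs_eq_of_mem {x y w : G} (hx : Iso x) (hy : y ∉ center G)
    (hab : ∀ a ∈ centralizer ({x} : Set G), ∀ b ∈ centralizer ({x} : Set G), Commute a b)
    (hwx : w ∈ centralizer ({x} : Set G)) (hw : w ∉ center G)
    (hwy : w ∈ centralizer ({y} : Set G)) : cs y = cs x := by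
  have e := hx.eq_of_le hw fun a ha => mem_cent.2 (hab a ha w hwx)
  have hyx : y ∈ centralizer ({x} : Set G) := e ▸ mem_cent_comm.1 hwy
  exact congrArg index (hx.eq_of_le hy fun a ha => mem_cent.2 (hab a ha y hyx))

theorem exists_ppow_not_mem {r : ℕ} (hr : r.Prime) {H K : Subgroup G} (h : r ∣ H.relIndex K) :
    ∃ g ∈ K, (∃ k, orderOf g = r ^ k) ∧ g ∉ H := by
  haveI := Fact.mk hr
  obtain ⟨S⟩ : Nonempty (Sylow r K) := inferInstance
  by_contra hcon
  push Not at hcon
  refine S.not_dvd_index (h.trans (index_dvd_of_le fun g hg => ?_))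
  obtain ⟨k, hk⟩ := (IsPGroup.iff_orderOf.1 S.2) ⟨g, hg⟩
  refine hcon (g : G) g.2 ⟨k, ?_⟩
  rw [← hk, orderOf_mk, orderOf_submonoid]

/-- Either the centraliser is abelian or it is an `r`-group modulo the centre. -/
theorem Iso.dichotomy {x : G} (hx : Iso x) :
    (∀ a ∈ centralizer ({x} : Set G), ∀ b ∈ centralizer ({x} : Set G), Commute a b) ∨
      ∃ r : ℕ, r.Prime ∧ ∀ s : ℕ, s.Prime → s ≠ r → ∀ a ∈ centralizer ({x} : Set G),
        (∃ k, orderOf a = s ^ k) → a ∈ center G := by
  obtain ⟨r, hr, u, hu, ⟨k, hk⟩, huZ⟩ : ∃ r : ℕ, r.Prime ∧ ∃ u ∈ zpowers x,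
      (∃ k, orderOf u = r ^ k) ∧ u ∉ center G := by
    by_contra h
    push Not at h
    exact hx.1 (mem_of_parts fun r hr g hg hk => h r hr g hg hk)
  have hCu := hx.eq_of_le huZ (cent_le_of_mem_zpowers hu)
  set C := centralizer ({x} : Set G) with hCdef
  have hcen : ∀ s : ℕ, s.Prime → s ≠ r → ∀ a ∈ C, (∃ k, orderOf a = s ^ k) →
      C ≤ centralizer ({a} : Set G) := by
    rintro s hs hsr a ha ⟨j, hj⟩
    have hau : Commute u a := (mem_cent.1 (hCu.symm ▸ ha)).symm
    have hcop : (orderOf u).Coprime (orderOf a) := by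
      rw [hk, hj]; exact ((Nat.coprime_primes hr hs).2 (Ne.symm hsr)).pow _ _
    have hm := cent_mul_of_coprime hau hcop
    have hnc : u * a ∉ center G := by
      intro hc
      refine huZ ?_
      obtain ⟨e, he1, he2⟩ := Nat.chineseRemainder hcop 1 0
      have : (u * a) ^ e = u := by
        rw [hau.mul_pow, (pow_eq_pow_iff_modEq.mpr he1), pow_one,
          (pow_eq_pow_iff_modEq.mpr he2), pow_zero, mul_one]
      rw [← this]; exact pow_mem hc _
    have hle : centralizer ({u * a} : Set G) ≤ C := hm.le.trans (inf_le_left.trans hCu.le)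
    have e : centralizer ({u * a} : Set G) = C := by
      have h1 := hx.2 (u * a) hnc (.inr (index_dvd_of_le hle))
      refine eq_of_le_of_card_ge hle ?_
      have h2 := C.card_mul_index
      rw [← (centralizer ({u * a} : Set G)).card_mul_index] at h2
      rw [show (centralizer ({u * a} : Set G)).index = C.index from h1] at h2
      exact (Nat.eq_of_mul_eq_mul_right (Nat.pos_of_ne_zero index_ne_zero_of_finite) h2).le
    rw [← e, hm]
    exact inf_le_right
  refine or_iff_not_imp_left.2 fun hnab => ⟨r, hr, fun s hs hsr a ha haord => ?_⟩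
  by_contra haZ
  push Not at hnab
  obtain ⟨b, hb, c, hc, hbc⟩ := hnab
  obtain ⟨v, hv, hvord, hvn⟩ : ∃ v ∈ C, (∃ j, orderOf v = r ^ j) ∧
      ¬ C ≤ centralizer ({v} : Set G) := by
    by_contra h
    push Not at h
    have hb' : b ∈ centralizer (C : Set G) := mem_of_parts fun t ht g hg ho =>
      mem_centralizer_iff.2 fun y hy => by
        have hgC : g ∈ C := (zpowers_le.2 hb) hg
        rcases eq_or_ne t r with rfl | hne
        · exact (mem_cent.1 (h g hgC ho hy)).eq
        · exact (mem_cent.1 (hcen t ht hne g hgC ho hy)).eq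
    exact hbc (mem_centralizer_iff.1 hb' c hc).symm
  have hCa : centralizer ({a} : Set G) = C := hx.eq_of_le haZ (hcen s hs hsr a ha haord)
  have hva : Commute v a := mem_cent.1 (hcen s hs hsr a ha haord hv)
  have hcop : (orderOf v).Coprime (orderOf a) := by
    obtain ⟨j, hj⟩ := hvord; obtain ⟨i, hi⟩ := haord
    rw [hj, hi]; exact ((Nat.coprime_primes hr hs).2 (Ne.symm hsr)).pow _ _
  have hm := cent_mul_of_coprime hva hcop
  rw [hCa] at hm
  have hnc : v * a ∉ center G := by
    intro hc
    refine hvn fun y _ => ?_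
    have : centralizer ({v * a} : Set G) = ⊤ := index_eq_one.1 (cs_eq_one_iff.2 hc)
    exact (inf_le_left : centralizer ({v} : Set G) ⊓ C ≤ _) (hm ▸ this ▸ mem_top y)
  have hle : centralizer ({v * a} : Set G) ≤ C := hm.le.trans inf_le_right
  have h1 := hx.2 (v * a) hnc (.inr (index_dvd_of_le hle))
  refine hvn ?_
  have e : centralizer ({v * a} : Set G) = C := by
    refine eq_of_le_of_card_ge hle ?_
    have h2 := C.card_mul_index
    rw [← (centralizer ({v * a} : Set G)).card_mul_index] at h2
    rw [show (centralizer ({v * a} : Set G)).index = C.index from h1] at h2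
    exact (Nat.eq_of_mul_eq_mul_right (Nat.pos_of_ne_zero index_ne_zero_of_finite) h2).le
  exact (e.symm.le.trans (hm.le.trans inf_le_left))

/-- The centraliser of an isolated element has no primes covered by another class size. -/
theorem Iso.not_dvd_cz {x y : G} (hx : Iso x) {r r₀ : ℕ} (hr : r.Prime) (hr₀ : r₀.Prime)
    (h₀ : r₀ ∣ (center G).index) (h₀x : ¬ r₀ ∣ cs x) (hrx : r ∣ cs x)
    (hy : y ∉ center G) (hry : ¬ r ∣ cs y) : ¬ r ∣ cz x := by
  intro hrc
  obtain ⟨w, hw, hword, hwZ⟩ := exists_ppow_not_mem hr hrc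
  rcases hx.dichotomy with hab | ⟨t, -, ht⟩
  · obtain ⟨c, hc⟩ := exists_conj_mem hr hry hword
    have hy' : c⁻¹ * y * c⁻¹⁻¹ ∉ center G := by
      rwa [← cs_eq_one_iff, cs_conj, cs_eq_one_iff]
    have hwy : w ∈ centralizer ({c⁻¹ * y * c⁻¹⁻¹} : Set G) := by
      rw [cent_conj, mem_map_equiv, MulAut.conj_symm_apply, inv_inv]
      exact hc
    have e := hx.cs_eq_of_mem hy' hab hw hwZ hwy
    rw [cs_conj] at e
    exact hry (e ▸ hrx)
  · have hrt : r = t := by
      by_contra hne
      exact hwZ (ht r hr hne w hw hword)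
    have h0c : r₀ ∣ cz x := by
      rw [← cz_mul_cs x] at h₀
      exact (hr₀.dvd_mul.1 h₀).resolve_right h₀x
    obtain ⟨w', hw', hword', hwZ'⟩ := exists_ppow_not_mem hr₀ h0c
    exact hwZ' (ht r₀ hr₀ (fun e => h₀x (e ▸ hrt ▸ hrx)) w' hw' hword')

/-- A prime of the index of the centre divides one of two different isolated class sizes. -/
theorem Iso.cover {x y : G} (hx : Iso x) (hy : Iso y) (hne : cs x ≠ cs y) {r : ℕ} (hr : r.Prime)
    (hrN : r ∣ (center G).index) : r ∣ cs x ∨ r ∣ cs y := by
  by_contra hcon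
  push Not at hcon
  obtain ⟨hrx, hry⟩ := hcon
  haveI := Fact.mk hr
  obtain ⟨S⟩ : Nonempty (Sylow r G) := inferInstance
  -- conjugates whose centralisers contain the same Sylow subgroup
  have key : ∀ z : G, ¬ r ∣ cs z → ∃ c : G,
      (S : Subgroup G) ≤ centralizer ({c * z * c⁻¹} : Set G) := by
    intro z hz
    obtain ⟨T⟩ : Nonempty (Sylow r (centralizer ({z} : Set G))) := inferInstance
    obtain ⟨U, hU⟩ := (T.2.map (centralizer ({z} : Set G)).subtype).exists_le_sylow
    have hUeq : (T : Subgroup (centralizer ({z} : Set G))).map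
        (centralizer ({z} : Set G)).subtype = (U : Subgroup G) := by
      refine eq_of_le_of_card_ge hU ?_
      rw [card_map_of_injective (centralizer ({z} : Set G)).subtype_injective,
        T.card_eq_multiplicity, U.card_eq_multiplicity,
        ← (centralizer ({z} : Set G)).card_mul_index,
        Nat.factorization_mul Nat.card_pos.ne' index_ne_zero_of_finite, Finsupp.add_apply,
        Nat.factorization_eq_zero_of_not_dvd hz, add_zero]
    obtain ⟨c, hc⟩ := MulAction.exists_smul_eq G U S
    refine ⟨c, ?_⟩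
    rw [cent_conj, ← hc, Sylow.coe_subgroup_smul]
    intro a ha
    obtain ⟨b, hb, rfl⟩ := ha
    exact mem_map_of_mem _ (map_subtype_le _ (hUeq.ge hb))
  obtain ⟨c, hc⟩ := key x hrx
  obtain ⟨d, hd⟩ := key y hry
  set x' := c * x * c⁻¹
  set y' := d * y * d⁻¹
  have hxI : Iso x' := ⟨by rw [← cs_eq_one_iff, cs_conj, cs_eq_one_iff]; exact hx.1,
    fun z hz e => by rw [cs_conj] at e ⊢; exact hx.2 z hz e⟩
  have hyI : Iso y' := ⟨by rw [← cs_eq_one_iff, cs_conj, cs_eq_one_iff]; exact hy.1,
    fun z hz e => by rw [cs_conj] at e ⊢; exact hy.2 z hz e⟩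
  have hne' : cs x' ≠ cs y' := by rw [cs_conj, cs_conj]; exact hne
  obtain ⟨u, huS, hu⟩ : ∃ u ∈ (S : Subgroup G), u ∉ center G := by
    by_contra h
    push Not at h
    exact S.not_dvd_index (hrN.trans (index_dvd_of_le h))
  have huord : ∃ k, orderOf u = r ^ k := by
    obtain ⟨k, hk⟩ := (IsPGroup.iff_orderOf.1 S.2) ⟨u, huS⟩
    exact ⟨k, by rw [← hk, orderOf_mk]⟩
  rcases hxI.dichotomy with hab | ⟨t, -, ht⟩
  · exact hne' (hxI.cs_eq_of_mem hyI.1 hab (hc huS) hu (hd huS)).symm
  rcases hyI.dichotomy with hab' | ⟨t', -, ht'⟩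
  · exact hne' (hyI.cs_eq_of_mem hxI.1 hab' (hd huS) hu (hc huS))
  have hrt : t = r := by
    by_contra hne2
    exact hu (ht r hr (Ne.symm hne2) u (hc huS) huord)
  subst hrt
  -- the centraliser of `x'` is generated by the Sylow subgroup and the centre
  have hZS : ((center G) ⊔ (S : Subgroup G)) = centralizer ({x'} : Set G) := by
    have hle : center G ⊔ (S : Subgroup G) ≤ centralizer ({x'} : Set G) :=
      sup_le (center_le_centralizer _) hc
    refine le_antisymm hle (relIndex_eq_one.1 ?_)
    by_contra hne2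
    obtain ⟨s, hs, hsd⟩ := Nat.exists_prime_and_dvd hne2
    rcases eq_or_ne s t with rfl | hst
    · exact S.not_dvd_index (hsd.trans ((relIndex_dvd_index_of_le hle).trans
        (index_dvd_of_le le_sup_right)))
    · obtain ⟨g, hg, hgo, hgn⟩ := exists_ppow_not_mem hs hsd
      exact hgn (le_sup_left (a := center G) (ht s hs hst g hg hgo))
  have hle' : centralizer ({x'} : Set G) ≤ centralizer ({y'} : Set G) := by
    rw [← hZS]; exact sup_le (center_le_centralizer _) hd
  exact hne' (hxI.2 y' hyI.1 (.inl (index_dvd_of_le hle'))).symm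

/-- The preimage of the centraliser of the image. -/
abbrev pre (x : G) : Subgroup G :=
  (centralizer ({(x : G ⧸ center G)} : Set (G ⧸ center G))).comap (QuotientGroup.mk' (center G))

theorem mem_pre {x g : G} : g ∈ pre x ↔ Commute (g : G ⧸ center G) x := by
  rw [mem_comap, mem_cent]; rfl

theorem cent_le_pre (x : G) : centralizer ({x} : Set G) ≤ pre x := fun _ hg =>
  mem_pre.2 ((mem_cent.1 hg).map (QuotientGroup.mk' (center G)))

theorem index_pre (x : G) : (pre x).index =
    (centralizer ({(x : G ⧸ center G)} : Set (G ⧸ center G))).index :=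
  index_comap_of_surjective _ (QuotientGroup.mk'_surjective _)

theorem cq_mul_index (x : G) : cq x * (pre x).index = (center G).index := by
  rw [index_pre, card_mul_index]; rfl

/-- The order of the centraliser of the image is a controlled multiple of `cz x`. -/
theorem cq_spec (x : G) : ∃ d, cq x = cz x * d ∧ d ∣ cs x ∧
    (d = 1 → pre x = centralizer ({x} : Set G)) ∧ ∀ r : ℕ, r.Prime → r ∣ d → r ∣ cz x := by
  set C := centralizer ({x} : Set G)
  set D := pre x
  have hCD : C ≤ D := cent_le_pre x
  have h1 : C.relIndex D * D.index = C.index := relIndex_mul_index hCD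
  refine ⟨C.relIndex D, ?_, ⟨D.index, h1.symm⟩,
    fun e => le_antisymm (relIndex_eq_one.1 e) hCD, ?_⟩
  · refine Nat.eq_of_mul_eq_mul_right (Nat.pos_of_ne_zero (index_ne_zero_of_finite (H := D))) ?_
    rw [cq_mul_index, mul_assoc, h1]
    exact (cz_mul_cs x).symm
  intro r hr hrd
  obtain ⟨g, hg, ⟨j, hj⟩, hgC⟩ := exists_ppow_not_mem hr hrd
  -- `g` multiplies `x` by a central element
  obtain ⟨z, hz, hzdef⟩ : ∃ z ∈ center G, g * x * g⁻¹ = z * x := by
    refine ⟨g * x * g⁻¹ * x⁻¹, ?_, (inv_mul_cancel_right _ _).symm⟩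
    rw [← QuotientGroup.eq_one_iff, QuotientGroup.mk_mul, QuotientGroup.mk_mul, QuotientGroup.mk_mul,
      QuotientGroup.mk_inv, QuotientGroup.mk_inv, (mem_pre.1 hg).eq]
    group
  have hzc : ∀ a : G, a * z = z * a := fun a => mem_center_iff.1 hz a
  have hpow : ∀ i : ℕ, g ^ i * x * (g ^ i)⁻¹ = z ^ i * x := by
    intro i
    induction i with
    | zero => simp
    | succ i ih =>
      calc g ^ (i + 1) * x * (g ^ (i + 1))⁻¹ = g * (g ^ i * x * (g ^ i)⁻¹) * g⁻¹ := by
            rw [pow_succ']; group
        _ = g * z ^ i * (x * g⁻¹) := by rw [ih]; group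
        _ = z ^ i * (g * x * g⁻¹) := by
            rw [(Commute.pow_right (hzc g) i).eq]; group
        _ = z ^ (i + 1) * x := by rw [hzdef, ← mul_assoc, ← pow_succ]
  have hzr : z ^ r ^ j = 1 := by
    have := hpow (r ^ j)
    rw [← hj, pow_orderOf_eq_one, one_mul, inv_one, mul_one] at this
    rw [← hj]
    exact mul_eq_right.1 this.symm
  have hxc : x ^ cz x ∈ center G := by
    have := pow_index_mem ((center G).subgroupOf C) (⟨x, mem_cent.2 (Commute.refl x)⟩ : C)
    rwa [mem_subgroupOf, SubgroupClass.coe_pow] at this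
  have hzn : z ^ cz x = 1 := by
    have e : g * x ^ cz x * g⁻¹ = z ^ cz x * x ^ cz x := by
      rw [← MulAut.conj_apply, map_pow, MulAut.conj_apply, hzdef,
        (show Commute z x from (hzc x).symm).mul_pow]
    rw [mem_center_iff.1 hxc g, mul_inv_cancel_right] at e
    exact mul_eq_right.1 e.symm
  by_contra hrc
  have hz1 : z = 1 := orderOf_eq_one_iff.1 (Nat.eq_one_of_dvd_coprimes
    (Nat.Coprime.pow_left j (hr.coprime_iff_not_dvd.2 hrc)) (orderOf_dvd_of_pow_eq_one hzr)
    (orderOf_dvd_of_pow_eq_one hzn))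
  exact hgC (mem_cent.2 (mul_inv_eq_iff_eq_mul.1 (by rw [hzdef, hz1, one_mul])))

/-- Centralisers are abelian when their images are and no fusion modulo the centre happens. -/
theorem cent_abelian {x : G}
    (hab : ∀ a ∈ pre x, ∀ b ∈ pre x, Commute (a : G ⧸ center G) (b : G ⧸ center G))
    (hu : ∀ u ∈ pre x, u ∉ center G → pre u = centralizer ({u} : Set G)) :
    ∀ a ∈ pre x, ∀ b ∈ pre x, Commute a b := by
  intro a ha b hb
  by_cases hbc : b ∈ center G
  · exact mem_center_iff.1 hbc a
  · exact mem_cent.1 (hu b hb hbc ▸ mem_pre.2 (hab a ha b hb))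

/-- Transfer: a central commutator element to the power of the index of `H` is a commutator
of `H`. -/
theorem pow_index_mem_commutator {H : Subgroup G} {z : G} (hz : z ∈ center G)
    (hz' : z ∈ commutator G) : z ^ H.index ∈ (commutator H).map H.subtype := by
  have h1 : MonoidHom.transfer (Abelianization.of : H →* Abelianization H) z = 1 :=
    Abelianization.commutator_subset_ker _ hz'
  rw [MonoidHom.transfer_eq_pow (ϕ := (Abelianization.of : H →* Abelianization H)) z (fun k g₀ _ => by
    rw [mem_center_iff.1 (pow_mem hz k) g₀⁻¹, inv_mul_cancel_right])] at h1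
  rw [← MonoidHom.mem_ker, Abelianization.ker_of] at h1
  exact ⟨_, h1, rfl⟩

theorem pow_index_eq_one {H : Subgroup G} (hH : ∀ a ∈ H, ∀ b ∈ H, Commute a b) {z : G}
    (hz : z ∈ center G) (hz' : z ∈ commutator G) : z ^ H.index = 1 := by
  have e : commutator H = ⊥ := by
    rw [commutator_def, commutator_eq_bot_iff_le_centralizer]
    exact fun a _ => mem_centralizer_iff.2 fun b _ => Subtype.ext (hH _ b.2 _ a.2).eq
  have := pow_index_mem_commutator (H := H) hz hz'
  rwa [e, Subgroup.map_bot, mem_bot] at this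

/-- A group with perfect central quotient `P` and `Z ∩ G' = 1` splits. -/
theorem split_of_inf {P : Type*} [Group P] (hP : commutator P = ⊤) (e : G ⧸ center G ≃* P)
    (hinf : ∀ z ∈ center G, z ∈ commutator G → z = 1) :
    ∃ N A : Subgroup G, N.Normal ∧ A ≤ center G ∧ N ⊓ A = ⊥ ∧ N ⊔ A = ⊤ ∧
      Nonempty (N ≃* P) := by
  let f : G →* P := e.toMonoidHom.comp (QuotientGroup.mk' (center G))
  have hf : Function.Surjective f := e.surjective.comp (QuotientGroup.mk'_surjective _)
  have hker : f.ker = center G := by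
    ext a
    rw [MonoidHom.mem_ker]
    show e (a : G ⧸ center G) = 1 ↔ _
    rw [MulEquiv.map_eq_one_iff, QuotientGroup.eq_one_iff]
  have hmap : (commutator G).map f = ⊤ := by
    rw [commutator_def, map_commutator, map_top_of_surjective f hf, ← commutator_def, hP]
  have hbot : commutator G ⊓ center G = ⊥ := by
    rw [eq_bot_iff_forall]
    exact fun z hz => hinf z hz.2 hz.1
  refine ⟨commutator G, center G, inferInstance, le_rfl, hbot, ?_, ⟨MulEquiv.ofBijective
    (f.comp (commutator G).subtype) ⟨?_, ?_⟩⟩⟩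
  · rw [← hker, ← comap_map_eq, hmap, comap_top]
  · intro a b hab
    have h1 : f (((a⁻¹ * b : commutator G) : G)) = 1 := by
      rw [coe_mul, coe_inv, map_mul, map_inv,
        show f (a : G) = f (b : G) from hab, inv_mul_cancel]
    have h2 : ((a⁻¹ * b : commutator G) : G) ∈ commutator G ⊓ center G :=
      ⟨(a⁻¹ * b).2, hker ▸ MonoidHom.mem_ker.2 h1⟩
    rw [hbot, mem_bot, coe_mul, coe_inv, inv_mul_eq_one] at h2
    exact Subtype.ext h2
  · intro p
    obtain ⟨a, ha, rfl⟩ := hmap.ge (mem_top p)
    exact ⟨⟨a, ha⟩, rfl⟩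

/-- `PSL(2)` over fields of equal cardinality. -/
theorem psl_congr {F : Type*} [Field F] [Fintype F] {K : Type*} [Field K] [Fintype K]
    (h : Fintype.card F = Fintype.card K) :
    Nonempty (Matrix.ProjectiveSpecialLinearGroup (Fin 2) F ≃*
      Matrix.ProjectiveSpecialLinearGroup (Fin 2) K) := by
  let ρ := FiniteField.ringEquivOfCardEq (K := F) (K' := K) h
  let σ : Matrix.SpecialLinearGroup (Fin 2) F ≃* Matrix.SpecialLinearGroup (Fin 2) K :=
    { toFun := Matrix.SpecialLinearGroup.map ρ.toRingHom
      invFun := Matrix.SpecialLinearGroup.map ρ.symm.toRingHom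
      left_inv := fun g => by ext i j; simp
      right_inv := fun g => by ext i j; simp
      map_mul' := map_mul _ }
  refine ⟨QuotientGroup.congr _ _ σ ?_⟩
  ext g
  refine (mem_map_equiv (f := σ)).trans ?_
  rw [mem_center_iff, mem_center_iff]
  constructor
  · intro hg y
    obtain ⟨y, rfl⟩ := σ.surjective y
    simpa using congrArg σ (hg y)
  · intro hg y
    exact σ.injective (by simpa using hg (σ y))

theorem psl_commutator_eq_top {F : Type*} [Field F] [Fintype F] (h4 : 4 ≤ Fintype.card F) :
    commutator (Matrix.ProjectiveSpecialLinearGroup (Fin 2) F) = ⊤ := by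
  have h1 := map_commutator (⊤ : Subgroup (Matrix.SpecialLinearGroup (Fin 2) F)) ⊤
    (QuotientGroup.mk' (center (Matrix.SpecialLinearGroup (Fin 2) F)))
  rw [← commutator_def, Cfsg.Lib.Known.sl2_commutator_eq_top F h4,
    map_top_of_surjective _ (QuotientGroup.mk'_surjective _), ← commutator_def] at h1
  exact h1.symm

end Cfsg.Lib.ClassSizePSL
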