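import Cfsg.Agent.ClassSizePSL.OddSimple
import Cfsg.Agent.ClassSizePSL.Even
import Cfsg.Agent.ClassSizePSL.General
import Cfsg.Agent.Known.SLTwoDegrees.Degrees
import Cfsg.Agent.Classical.Misc.SmallPSL
import Cfsg.Agent.Chars.DefectZero
import Cfsg.Agent.Chars.NonVanish
import Cfsg.Agent.Chars.PrimePairs

/-!
# Groups with the character degrees of `PSL(2,p²)`

The degrees with multiplicity give the group order and the absence of nontrivial linear
characters; characters of defect zero then separate the primes into three classes, which gives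
the orders of the centralisers.
-/

set_option autoImplicit false
set_option linter.unusedSectionVars false
set_option linter.style.haveILetI false

namespace Cfsg.Lib.ClassSizePSL.Degrees

open Subgroup Cfsg.Lib.Chars Cfsg.Lib.ClassSize Cfsg.Lib.ClassSizePSL
open scoped MatrixGroups

universe u v

/-! ## Transfer along an equality of multisets of degrees -/

theorem exists_equiv {G : Type u} [Group G] [Finite G] {H : Type v} [Group H] [Finite H]
    (h : ∀ d : ℕ, Nat.card {χ : Cfsg.IrrCharacter G // (χ : G → ℂ) 1 = (d : ℂ)} =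
      Nat.card {χ : Cfsg.IrrCharacter H // (χ : H → ℂ) 1 = (d : ℂ)}) :
    ∃ e : Cfsg.IrrCharacter G ≃ Cfsg.IrrCharacter H,
      ∀ χ, deg ((e χ : H → ℂ)) = deg ((χ : G → ℂ)) := by
  have h' : ∀ d : ℕ, Nat.card {χ : Cfsg.IrrCharacter G // deg (χ : G → ℂ) = d} =
      Nat.card {χ : Cfsg.IrrCharacter H // deg (χ : H → ℂ) = d} := fun d => by
    rw [Nat.card_congr (Equiv.subtypeEquivRight fun χ : Cfsg.IrrCharacter G =>
        show deg (χ : G → ℂ) = d ↔ (χ : G → ℂ) 1 = (d : ℂ) by rw [irr_apply_one_eq_deg, Nat.cast_inj]),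
      Nat.card_congr (Equiv.subtypeEquivRight fun χ : Cfsg.IrrCharacter H =>
        show deg (χ : H → ℂ) = d ↔ (χ : H → ℂ) 1 = (d : ℂ) by rw [irr_apply_one_eq_deg, Nat.cast_inj])]
    exact h d
  let f := fun d => Finite.equivFinOfCardEq (h' d)
  let g := fun d => (Finite.equivFin {χ : Cfsg.IrrCharacter H // deg (χ : H → ℂ) = d})
  exact ⟨Equiv.ofFiberEquiv (f := fun χ : Cfsg.IrrCharacter G => deg (χ : G → ℂ))
    (g := fun χ : Cfsg.IrrCharacter H => deg (χ : H → ℂ)) fun d => (f d).trans (g d).symm,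
    fun χ => Equiv.ofFiberEquiv_map (f := fun χ : Cfsg.IrrCharacter G => deg (χ : G → ℂ))
      (g := fun χ : Cfsg.IrrCharacter H => deg (χ : H → ℂ)) _ χ⟩

theorem card_eq {G : Type u} [Group G] [Finite G] {H : Type v} [Group H] [Finite H]
    (e : Cfsg.IrrCharacter G ≃ Cfsg.IrrCharacter H)
    (he : ∀ χ, deg ((e χ : H → ℂ)) = deg ((χ : G → ℂ))) : Nat.card G = Nat.card H := by
  rw [← sum_deg_sq_nat (G := G), ← sum_deg_sq_nat (G := H)]
  exact Fintype.sum_equiv e _ _ fun χ => by rw [he]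

/-- A group with the degrees of a perfect group has a single linear character. -/
theorem eq_principal {G : Type u} [Group G] [Finite G] {H : Type v} [Group H] [Finite H]
    (hH : commutator H = ⊤) (e : Cfsg.IrrCharacter G ≃ Cfsg.IrrCharacter H)
    (he : ∀ χ, deg ((e χ : H → ℂ)) = deg ((χ : G → ℂ))) (χ : Cfsg.IrrCharacter G)
    (hχ : deg (χ : G → ℂ) = 1) : χ = ⟨fun _ => 1, isIrrCharacter_one⟩ := by
  have h1 := Cfsg.Lib.Chars.PrimePairs.card_linear H
  rw [hH, index_top, Nat.card_eq_one_iff_unique] at h1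
  haveI := h1.1
  have hm : ∀ ψ : Cfsg.IrrCharacter G, deg (ψ : G → ℂ) = 1 → ((e ψ : H → ℂ)) 1 = 1 := fun ψ hψ => by
    rw [irr_apply_one_eq_deg, he, hψ, Nat.cast_one]
  have h0 : deg ((⟨fun _ => 1, isIrrCharacter_one⟩ : Cfsg.IrrCharacter G) : G → ℂ) = 1 :=
    Nat.cast_injective (R := ℂ) (by rw [← irr_apply_one_eq_deg]; simp)
  exact e.injective (congrArg Subtype.val
    (Subsingleton.elim (⟨e χ, hm χ hχ⟩ : {ψ : Cfsg.IrrCharacter H // (ψ : H → ℂ) 1 = 1}) ⟨_, hm _ h0⟩))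

/-! ## Three classes of primes -/

variable {G : Type u} [Group G] [Finite G]

/-- Primes of two different classes divide no element order, so centralisers lie in one class. -/
theorem cc_dvd_part {A B C : ℕ} (hAB : A.Coprime B) (hAC : A.Coprime C) (hBC : B.Coprime C)
    (hA : 1 < A) (hB : 1 < B) (hC : 1 < C) (hcard : Nat.card G = A * B * C)
    (hdeg : ∀ χ : Cfsg.IrrCharacter G, χ = ⟨fun _ => 1, isIrrCharacter_one⟩ ∨
      A ∣ deg (χ : G → ℂ) ∨ B ∣ deg (χ : G → ℂ) ∨ C ∣ deg (χ : G → ℂ))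
    {x : G} (hx : x ≠ 1) : cc x ∣ A ∨ cc x ∣ B ∨ cc x ∣ C := by
  classical
  haveI := Fintype.ofFinite G
  -- vanishing
  have van : ∀ (d m : ℕ), Nat.card G = d * m → ∀ s : ℕ, s.Prime → ¬ s ∣ m →
      ∀ χ : Cfsg.IrrCharacter G, d ∣ deg (χ : G → ℂ) → ∀ g : G, s ∣ orderOf g →
      (χ : G → ℂ) g = 0 := by
    intro d m hG s hs hsm χ hd g hg
    refine eq_zero_of_defect_zero χ.2 hs (Nat.ordProj_dvd _ s)
      (Nat.pow_succ_factorization_not_dvd Nat.card_pos.ne' hs) ?_ hg
    refine (Nat.Coprime.dvd_of_dvd_mul_right ?_ ((Nat.ordProj_dvd (Nat.card G) s).trans hG.dvd)).trans hd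
    exact Nat.Coprime.pow_left _ (hs.coprime_iff_not_dvd.2 hsm)
  -- no element order meets two classes
  have mixed : ∀ (D E F : ℕ), D.Coprime E → D.Coprime F → E.Coprime F → 1 < F →
      Nat.card G = D * E * F →
      (∀ χ : Cfsg.IrrCharacter G, χ = ⟨fun _ => 1, isIrrCharacter_one⟩ ∨
        D ∣ deg (χ : G → ℂ) ∨ E ∣ deg (χ : G → ℂ) ∨ F ∣ deg (χ : G → ℂ)) →
      ∀ g : G, ∀ r s : ℕ, r.Prime → s.Prime → r ∣ D → s ∣ E → r ∣ orderOf g → s ∣ orderOf g → False := by
    intro D E F hDE hDF hEF hF hG hd g r s hr hs hrD hsE hrg hsg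
    have hr' : ¬ r ∣ E * F := fun h =>
      hr.ne_one (Nat.eq_one_of_dvd_coprimes (hDE.mul_right hDF) hrD h)
    have hs' : ¬ s ∣ D * F := fun h =>
      hs.ne_one (Nat.eq_one_of_dvd_coprimes (hDE.symm.mul_right hEF) hsE h)
    have hg1 : g ≠ 1 := by
      rintro rfl
      rw [orderOf_one] at hrg
      exact hr.ne_one (Nat.dvd_one.1 hrg)
    set χ0 : Cfsg.IrrCharacter G := ⟨fun _ => 1, isIrrCharacter_one⟩
    set β : ℂ := ∑ χ ∈ Finset.univ.erase χ0,
      ((deg (χ : G → ℂ) / F : ℕ) : ℂ) * (χ : G → ℂ) g with hβ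
    have hint : IsIntegral ℤ β := IsIntegral.sum _ fun χ _ =>
      IsIntegral.mul (by exact_mod_cast (isIntegral_algebraMap (R := ℤ) (A := ℂ) (x := ((deg (χ : G → ℂ) / F : ℕ) : ℤ))))
        (IsCharacter.isIntegral (isCharacter_of_irr χ.2) g)
    have hsum : (1 : ℂ) + F * β = 0 := by
      have h := sum_deg_mul g
      rw [if_neg hg1, ← Finset.add_sum_erase _ _ (Finset.mem_univ χ0)] at h
      rw [← h, hβ, Finset.mul_sum]
      congr 1
      · simp [χ0]
      refine Finset.sum_congr rfl fun χ hχ => ?_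
      rcases hd χ with h1 | h1 | h1 | h1
      · exact absurd h1 (Finset.ne_of_mem_erase hχ)
      · rw [van D (E * F) (by rw [hG]; ring) r hr hr' χ h1 g hrg]; simp
      · rw [van E (D * F) (by rw [hG]; ring) s hs hs' χ h1 g hsg]; simp
      · rw [← mul_assoc, ← Nat.cast_mul, Nat.mul_div_cancel' h1, irr_apply_one_eq_deg]
    have hF0 : (F : ℂ) ≠ 0 := Nat.cast_ne_zero.2 (by omega)
    have he : ((1 : ℕ) : ℂ) / (F : ℂ) = -β := by
      rw [div_eq_iff hF0]; push_cast; linear_combination hsum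
    have := Nat.dvd_one.1 (dvd_of_isIntegral_div (by omega) (he ▸ hint.neg))
    omega
  obtain ⟨s, hs, hso⟩ := Nat.exists_prime_and_dvd (show orderOf x ≠ 1 from
    fun h => hx (orderOf_eq_one_iff.1 h))
  -- every prime of the centraliser meets `s` in an element order
  have meet : ∀ r : ℕ, r.Prime → r ∣ cc x → ∃ g : G, r ∣ orderOf g ∧ s ∣ orderOf g := by
    intro r hr hrc
    haveI := Fact.mk hr
    rcases eq_or_ne r s with rfl | hne
    · exact ⟨x, hso, hso⟩
    obtain ⟨y, hy⟩ := exists_prime_orderOf_dvd_card' r hrc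
    have hy' : orderOf (y : G) = r := by rw [orderOf_coe, hy]
    have hord : orderOf (x ^ (orderOf x / s)) = s :=
      orderOf_pow_orderOf_div (orderOf_pos x).ne' hso
    have hcomm : Commute (x ^ (orderOf x / s)) (y : G) :=
      (mem_cent.1 y.2).symm.pow_left _
    refine ⟨x ^ (orderOf x / s) * (y : G), ?_⟩
    rw [hcomm.orderOf_mul_eq_mul_orderOf_of_coprime (by
      rw [hord, hy']; exact (Nat.coprime_primes hs hr).2 hne.symm), hord, hy']
    exact ⟨dvd_mul_left r s, dvd_mul_right s r⟩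
  have hsG : s ∣ A * B * C := hcard ▸ hso.trans (orderOf_dvd_natCard x)
  have hccG : cc x ∣ A * B * C := hcard ▸ card_subgroup_dvd_card _
  rcases hs.dvd_mul.1 hsG with h | hsC
  · rcases hs.dvd_mul.1 h with hsA | hsB
    · refine .inl ((Nat.coprime_of_dvd fun r hr hrc hrB => ?_).dvd_of_dvd_mul_right
        (m := A) (n := B * C) (by rwa [← mul_assoc]))
      obtain ⟨g, hg1, hg2⟩ := meet r hr hrc
      rcases hr.dvd_mul.1 hrB with hrB | hrC
      · exact mixed A B C hAB hAC hBC hC hcard hdeg g s r hs hr hsA hrB hg2 hg1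
      · exact mixed A C B hAC hAB hBC.symm hB (by rw [hcard]; ring)
          (fun χ => by have := hdeg χ; tauto) g s r hs hr hsA hrC hg2 hg1
    · refine .inr (.inl ((Nat.coprime_of_dvd fun r hr hrc hrB => ?_).dvd_of_dvd_mul_right
        (m := B) (n := A * C) (by rwa [show B * (A * C) = A * B * C by ring])))
      obtain ⟨g, hg1, hg2⟩ := meet r hr hrc
      rcases hr.dvd_mul.1 hrB with hrA | hrC
      · exact mixed A B C hAB hAC hBC hC hcard hdeg g r s hr hs hrA hsB hg1 hg2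
      · exact mixed B C A hBC hAB.symm hAC.symm hA (by rw [hcard]; ring)
          (fun χ => by have := hdeg χ; tauto) g s r hs hr hsB hrC hg2 hg1
  · refine .inr (.inr ((Nat.coprime_of_dvd fun r hr hrc hrB => ?_).dvd_of_dvd_mul_right
      (m := C) (n := A * B) (by rwa [mul_comm C])))
    obtain ⟨g, hg1, hg2⟩ := meet r hr hrc
    rcases hr.dvd_mul.1 hrB with hrA | hrB'
    · exact mixed A C B hAC hAB hBC.symm hB (by rw [hcard]; ring)
        (fun χ => by have := hdeg χ; tauto) g r s hr hs hrA hsC hg1 hg2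
    · exact mixed B C A hBC hAB.symm hAC.symm hA (by rw [hcard]; ring)
        (fun χ => by have := hdeg χ; tauto) g r s hr hs hrB' hsC hg1 hg2

/-- An element of `p`-power order lies in an abelian Sylow subgroup of order `p²`. -/
theorem sq_dvd_cc {p m : ℕ} (hp : p.Prime) (hG : Nat.card G = p ^ 2 * m) (hm : ¬ p ∣ m) {x : G}
    (hx : orderOf x ∣ p ^ 2) : p ^ 2 ∣ cc x := by
  haveI := Fact.mk hp
  obtain ⟨i, -, hi⟩ := (Nat.dvd_prime_pow hp).1 hx
  obtain ⟨S, hS⟩ := (IsPGroup.of_card (n := i) (by rw [Nat.card_zpowers, hi]) :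
    IsPGroup p (zpowers x)).exists_le_sylow
  have hc : Nat.card S = p ^ 2 := by
    rw [S.card_eq_multiplicity, hG, Nat.factorization_mul (pow_ne_zero 2 hp.ne_zero)
      (fun h => hm (by rw [h]; exact dvd_zero p)), Finsupp.add_apply, hp.factorization_pow,
      Finsupp.single_eq_same, Nat.factorization_eq_zero_of_not_dvd hm]
  rw [← hc]
  refine card_dvd_of_le fun a ha => mem_cent.2 ?_
  exact congrArg Subtype.val (IsPGroup.commutative_of_card_eq_prime_sq hc ⟨a, ha⟩
    ⟨x, hS (mem_zpowers x)⟩)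

theorem cent_pow_unit {x : G} {m : ℕ} [NeZero m] (hm : orderOf x = m) (k : (ZMod m)ˣ) :
    centralizer ({x ^ (k : ZMod m).val} : Set G) = centralizer ({x} : Set G) := by
  refine le_antisymm ?_ (cent_le_of_mem_zpowers (pow_mem (mem_zpowers x) _))
  refine cent_le_of_mem_zpowers ?_
  obtain ⟨t, ht⟩ := exists_pow_eq_self_of_coprime
    (hm.symm ▸ ZMod.val_coe_unit_coprime k : (k : ZMod m).val.Coprime (orderOf x))
  exact (congrArg (· ∈ zpowers (x ^ (k : ZMod m).val)) ht).mp (pow_mem (mem_zpowers _) t)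

/-! ## Degrees of `PSL(2,q)` -/

section PSL

variable {F : Type v} [Field F] [Fintype F]

open Cfsg.Lib.GLTwo Cfsg.Lib.GLTwo.SCh in
/-- For `q ≡ 1 (mod 4)` the degree `(q-1)/2` does not occur. -/
theorem psl_deg {u : ℕ} (hu : 1 ≤ u) (hq : Fintype.card F = 4 * u + 1)
    (χ : Cfsg.IrrCharacter (Matrix.ProjectiveSpecialLinearGroup (Fin 2) F)) :
    deg (χ : Matrix.ProjectiveSpecialLinearGroup (Fin 2) F → ℂ) = 1 ∨
    deg (χ : Matrix.ProjectiveSpecialLinearGroup (Fin 2) F → ℂ) = 4 * u + 1 ∨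
    deg (χ : Matrix.ProjectiveSpecialLinearGroup (Fin 2) F → ℂ) = 4 * u + 2 ∨
    deg (χ : Matrix.ProjectiveSpecialLinearGroup (Fin 2) F → ℂ) = 4 * u ∨
    deg (χ : Matrix.ProjectiveSpecialLinearGroup (Fin 2) F → ℂ) = 2 * u + 1 := by
  classical
  set d := deg (χ : Matrix.ProjectiveSpecialLinearGroup (Fin 2) F → ℂ) with hd
  let π : Matrix.SpecialLinearGroup (Fin 2) F →* Matrix.ProjectiveSpecialLinearGroup (Fin 2) F :=
    QuotientGroup.mk' _
  have hπ : Function.Surjective π := QuotientGroup.mk'_surjective _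
  set ψ : Cfsg.IrrCharacter SL(2, F) := ⟨_, IsIrrCharacter.comp_surjective χ.2 π hπ⟩
  have hψ1 : (ψ : SL(2, F) → ℂ) 1 = (d : ℂ) := by
    show (χ : Matrix.ProjectiveSpecialLinearGroup (Fin 2) F → ℂ) (π 1) = _
    rw [map_one, irr_apply_one_eq_deg]
  have hmem : d ∈ Cfsg.charDegrees SL(2, F) := ⟨ψ, by simp [Cfsg.charDegree, hψ1]⟩
  rcases Cfsg.Lib.SLTwoDegrees.sl_degrees hmem with h | h | h | h | ⟨-, h | h⟩
  any_goals omega
  exfalso
  have ho : Odd (Fintype.card F) := ⟨2 * u, by omega⟩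
  obtain ⟨s, hs⟩ := Cfsg.Lib.GLTwo.exists_orderOf_add_one (F := F)
  have hC : IsCyclic (zpowers s) := inferInstance
  have hcard : Nat.card (zpowers s) = Fintype.card F + 1 := by rw [Nat.card_zpowers, hs]
  have hs1 : s ≠ 1 := fun e => by rw [e, orderOf_one] at hs; omega
  have hs2 : s ≠ -1 := fun e => by
    have : orderOf s ∣ 2 := orderOf_dvd_of_pow_eq_one (by rw [e]; simp)
    rw [hs] at this
    have := Nat.le_of_dvd two_pos this
    omega
  have hneg : -s ∈ zpowers s := by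
    rw [← neg_one_mul]; exact mul_mem (neg_one_mem ho hcard) (mem_zpowers s)
  have e1 := (torus_elt ho hC hcard (mem_zpowers s) hs1 hs2).2.1
  have e2 := (torus_elt ho hC hcard hneg (fun e => hs2 (by rw [← neg_neg s, e]))
    (fun e => hs1 (neg_injective e))).2.1
  have hd2 : (ψ : SL(2, F) → ℂ) 1 = (((Fintype.card F - 1) / 2 : ℕ) : ℂ) := by rw [hψ1, h]
  have v1 := half_minus_ell ho (by omega) ψ.2 hd2 e1
  have v2 := half_minus_ell ho (by omega) ψ.2 hd2 e2
  have hev : (ψ : SL(2, F) → ℂ) (-s) = (ψ : SL(2, F) → ℂ) s := by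
    show (χ : Matrix.ProjectiveSpecialLinearGroup (Fin 2) F → ℂ) (π (-s)) =
      (χ : Matrix.ProjectiveSpecialLinearGroup (Fin 2) F → ℂ) (π s)
    rw [← neg_one_mul, map_mul, show π (-1) = 1 from
      (QuotientGroup.eq_one_iff _).2 (center_cases.2 (.inr rfl)), one_mul]
  set j := (Fintype.card F + 1) / 2 with hj
  have hjodd : Odd j := ⟨u, by omega⟩
  have hjne : s ^ j ≠ 1 := fun e => by
    have := Nat.le_of_dvd (by omega) (orderOf_dvd_of_pow_eq_one e)
    omega
  have hjc : s ^ j = -1 := by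
    have h2 : s ^ j * s ^ j = 1 := by
      rw [← pow_add, show j + j = orderOf s by omega, pow_orderOf_eq_one]
    exact (eq_pm_one_of_sq (two_ne_zero_of_odd ho) h2).resolve_left hjne
  rw [v2.1 (by rw [hjodd.neg_pow, hjc, neg_neg]), v1.2 hjne] at hev
  norm_num at hev

theorem psl_deg_four (hq : Fintype.card F = 4)
    (χ : Cfsg.IrrCharacter (Matrix.ProjectiveSpecialLinearGroup (Fin 2) F)) :
    deg (χ : Matrix.ProjectiveSpecialLinearGroup (Fin 2) F → ℂ) = 1 ∨
    deg (χ : Matrix.ProjectiveSpecialLinearGroup (Fin 2) F → ℂ) = 4 ∨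
    deg (χ : Matrix.ProjectiveSpecialLinearGroup (Fin 2) F → ℂ) = 5 ∨
    deg (χ : Matrix.ProjectiveSpecialLinearGroup (Fin 2) F → ℂ) = 3 := by
  classical
  have hmem : deg (χ : Matrix.ProjectiveSpecialLinearGroup (Fin 2) F → ℂ) ∈
      Cfsg.charDegrees SL(2, F) := by
    let π : Matrix.SpecialLinearGroup (Fin 2) F →* Matrix.ProjectiveSpecialLinearGroup (Fin 2) F :=
      QuotientGroup.mk' _
    refine Cfsg.Lib.SLTwoDegrees.charDegrees_subset π (QuotientGroup.mk'_surjective _) ?_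
    exact ⟨χ, by simp [Cfsg.charDegree, irr_apply_one_eq_deg]⟩
  rcases Cfsg.Lib.SLTwoDegrees.sl_degrees hmem with h | h | h | h | ⟨ho, -⟩
  any_goals omega
  exact absurd ho (by rw [hq]; decide)

end PSL

/-! ## The odd case -/

theorem hyp_odd {p u : ℕ} (hp : p.Prime) (hu : Even u) (hu0 : 1 ≤ u) (hq : p ^ 2 = 4 * u + 1)
    (hcard : Nat.card G = p ^ 2 * (2 * u + 1) * (4 * u))
    (huniq : ∀ χ : Cfsg.IrrCharacter G, deg (χ : G → ℂ) = 1 →
      χ = ⟨fun _ => 1, isIrrCharacter_one⟩)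
    (hdeg : ∀ χ : Cfsg.IrrCharacter G, deg (χ : G → ℂ) = 1 ∨ deg (χ : G → ℂ) = 4 * u + 1 ∨
      deg (χ : G → ℂ) = 4 * u + 2 ∨ deg (χ : G → ℂ) = 4 * u ∨ deg (χ : G → ℂ) = 2 * u + 1) :
    OddQ.Hyp G (p ^ 2) (2 * u) (2 * u + 1) := by
  classical
  haveI := Fintype.ofFinite G
  obtain ⟨w, hw⟩ := id hu
  have h4 : Nat.Coprime (4 * u + 1) (4 * u) :=
    Nat.coprime_self_add_left.2 (Nat.coprime_one_left _)
  have hqk : (p ^ 2).Coprime (2 * u + 1) := by
    rw [hq, show 4 * u + 1 = (2 * u + 1) + 2 * u by ring, Nat.coprime_self_add_left,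
      Nat.coprime_self_add_right]
    exact Nat.coprime_one_right _
  have hk4 : (2 * u + 1).Coprime (4 * u) := by
    rw [show 4 * u = 2 * (2 * u) by ring]
    exact (Nat.coprime_two_right.2 ⟨u, rfl⟩).mul_right
      (Nat.coprime_self_add_left.2 (Nat.coprime_one_left _))
  have h3 : ∀ χ : Cfsg.IrrCharacter G, χ = ⟨fun _ => 1, isIrrCharacter_one⟩ ∨
      p ^ 2 ∣ deg (χ : G → ℂ) ∨ (2 * u + 1) ∣ deg (χ : G → ℂ) ∨ 4 * u ∣ deg (χ : G → ℂ) := fun χ => by
    rcases hdeg χ with h | h | h | h | h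
    · exact .inl (huniq χ h)
    · exact .inr (.inl (by rw [h, hq]))
    · exact .inr (.inr (.inl (by rw [h]; exact ⟨2, by ring⟩)))
    · exact .inr (.inr (.inr (by rw [h])))
    · exact .inr (.inr (.inl (by rw [h])))
  have hparts : ∀ x : G, x ≠ 1 → cc x ∣ p ^ 2 ∨ cc x ∣ (2 * u + 1) ∨ cc x ∣ 4 * u := fun x hx =>
    cc_dvd_part hqk (hq ▸ h4) hk4 (by omega) (by omega) (by omega) hcard h3 hx
  have hself : ∀ x : G, orderOf x ∣ cc x := fun x => by
    rw [← Nat.card_zpowers]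
    exact card_dvd_of_le (zpowers_le.2 (mem_cent.2 (Commute.refl x)))
  refine ⟨by omega, .inl rfl, ⟨u, by ring⟩, by omega, ⟨p, 2, hp, rfl⟩, by rw [hcard]; ring,
    fun x hx => ?_, fun x hx hc => ?_⟩
  · rcases hparts x hx with h | h | h
    · refine .inl (Nat.dvd_antisymm h (sq_dvd_cc hp (m := (2 * u + 1) * (4 * u))
        (by rw [hcard]; ring) (fun hd => hp.ne_one ?_) ((hself x).trans h)))
      exact Nat.eq_one_of_dvd_coprimes (hqk.mul_right (hq ▸ h4)) (dvd_pow_self p two_ne_zero) hd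
    · exact .inr (.inl h)
    · exact .inr (.inr (by rwa [show 2 * (2 * u) = 4 * u by ring]))
  rintro ⟨s, j, hs, hord⟩
  by_contra hodd
  have hccu : cc x ∣ u := by
    rw [show 2 * (2 * u) = 2 ^ 2 * u by ring] at hc
    exact (Nat.Coprime.pow_right 2 (Nat.coprime_two_right.2 (Nat.not_even_iff_odd.1
      fun e => hodd e.two_dvd))).dvd_of_dvd_mul_left hc
  have hj0 : j ≠ 0 := by
    rintro rfl
    rw [pow_zero, orderOf_eq_one_iff] at hord
    exact hx hord
  have hso : s ∣ orderOf x := hord ▸ dvd_pow_self s hj0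
  have hsu : s ∣ u := hso.trans ((hself x).trans hccu)
  have hs2 : s ≠ 2 := fun e => hodd (e ▸ hso.trans (hself x))
  have hccle : 2 * cc x ≤ u := Nat.le_of_dvd (by omega) ((Nat.Coprime.mul_dvd_of_dvd_of_dvd
    (Nat.coprime_two_left.2 (Nat.not_even_iff_odd.1 fun e => hodd e.two_dvd)) hu.two_dvd hccu))
  set m := orderOf x with hm
  haveI : NeZero m := ⟨(orderOf_pos x).ne'⟩
  set S : Finset (Cfsg.IrrCharacter G) :=
    Finset.univ.filter fun χ => deg (χ : G → ℂ) ≠ 4 * u with hS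
  -- the squares of the degrees in `S` modulo `4u`
  set c : Cfsg.IrrCharacter G → ℕ := fun χ => if deg (χ : G → ℂ) = 4 * u + 2 then 4 else 1 with hcdef
  have hNS : u ≤ S.card := by
    have hcast : ((∑ χ ∈ S, c χ : ℕ) : ZMod (4 * u)) = 0 := by
      have h0 : ((4 : ZMod (4 * u)) * (u : ZMod (4 * u))) = 0 := by
        have := ZMod.natCast_self (4 * u); push_cast at this; exact this
      have h1 : ((Nat.card G : ℕ) : ZMod (4 * u)) = 0 := by
        rw [hcard]; push_cast; rw [h0, mul_zero]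
      rw [← sum_deg_sq_nat, ← Finset.sum_filter_add_sum_filter_not Finset.univ
        (fun χ : Cfsg.IrrCharacter G => deg (χ : G → ℂ) ≠ 4 * u)] at h1
      have h2 : ((∑ χ ∈ Finset.univ.filter (fun χ : Cfsg.IrrCharacter G => ¬ deg (χ : G → ℂ) ≠ 4 * u),
          deg (χ : G → ℂ) ^ 2 : ℕ) : ZMod (4 * u)) = 0 := by
        rw [Nat.cast_sum]
        refine Finset.sum_eq_zero fun χ hχ => ?_
        rw [Finset.mem_filter, not_not] at hχ
        rw [hχ.2]; push_cast; rw [h0]; ring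
      rw [← hS, Nat.cast_add, h2, add_zero] at h1
      rw [← h1, Nat.cast_sum, Nat.cast_sum]
      refine Finset.sum_congr rfl fun χ hχ => ?_
      rw [hS, Finset.mem_filter] at hχ
      have hu' : ((2 : ZMod (4 * u)) * u + 1) ^ 2 = 1 := by
        linear_combination ((u : ZMod (4 * u)) + 1) * h0
      rcases hdeg χ with h | h | h | h | h
      · simp only [hcdef, h, if_neg (show (1 : ℕ) ≠ 4 * u + 2 by omega)]; norm_num
      · simp only [hcdef, h, if_neg (show 4 * u + 1 ≠ 4 * u + 2 by omega)]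
        push_cast; rw [h0]; norm_num
      · simp only [hcdef, h, if_pos rfl]
        push_cast; rw [h0]; norm_num
      · exact absurd h hχ.2
      · simp only [hcdef, h, if_neg (show 2 * u + 1 ≠ 4 * u + 2 by omega)]
        push_cast; rw [hu']
    have hdvd := (ZMod.natCast_eq_zero_iff _ _).1 hcast
    have hpos : 0 < ∑ χ ∈ S, c χ := by
      refine Finset.sum_pos (fun χ _ => ?_) ⟨⟨fun _ => 1, isIrrCharacter_one⟩, ?_⟩
      · simp only [hcdef]; split_ifs <;> norm_num
      · rw [hS, Finset.mem_filter]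
        refine ⟨Finset.mem_univ _, ?_⟩
        have : deg (fun _ : G => (1 : ℂ)) = 1 := by simp [deg]
        show deg (fun _ : G => (1 : ℂ)) ≠ _
        omega
    have hle : ∑ χ ∈ S, c χ ≤ S.card * 4 := by
      refine (Finset.sum_le_card_nsmul S c 4 fun χ _ => ?_).trans (by rw [smul_eq_mul])
      simp only [hcdef]; split_ifs <;> norm_num
    have := Nat.le_of_dvd hpos hdvd
    omega
  -- averaging over the Galois conjugates
  have hne : ∀ χ ∈ S, ∀ k : (ZMod m)ˣ, (χ : G → ℂ) (x ^ (k : ZMod m).val) ≠ 0 := by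
    intro χ hχ k
    rw [hS, Finset.mem_filter] at hχ
    refine apply_ne_zero_of_not_dvd (isCharacter_of_irr χ.2) hs (a := j)
      (by rw [← pow_mul, mul_comm, pow_mul, ← hord, pow_orderOf_eq_one, one_pow]) fun hd => ?_
    have hs3 := hs.two_le
    have h4u : s ∣ 4 * u := hsu.mul_left 4
    rcases hdeg χ with h | h | h | h | h <;> rw [h] at hd
    · exact hs.ne_one (Nat.dvd_one.1 hd)
    · exact hs.ne_one (Nat.dvd_one.1 ((Nat.dvd_add_right h4u).1 hd))
    · exact hs2 ((Nat.prime_dvd_prime_iff_eq hs Nat.prime_two).1 ((Nat.dvd_add_right h4u).1 hd))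
    · exact hχ.2 h
    · exact hs.ne_one (Nat.dvd_one.1 ((Nat.dvd_add_right (hsu.mul_left 2)).1 hd))
  have hkey : (S.card : ℝ) * Fintype.card (ZMod m)ˣ ≤ Fintype.card (ZMod m)ˣ * (cc x : ℝ) := by
    calc (S.card : ℝ) * Fintype.card (ZMod m)ˣ
        ≤ ∑ χ ∈ S, ∑ k : (ZMod m)ˣ, ‖(χ : G → ℂ) (x ^ (k : ZMod m).val)‖ ^ 2 := by
          rw [← nsmul_eq_mul, ← Finset.sum_const]
          exact Finset.sum_le_sum fun χ hχ =>
            (card_units_le_sum_norm_sq (isCharacter_of_irr χ.2) (hm ▸ dvd_rfl) (hne χ hχ)).1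
      _ ≤ ∑ χ : Cfsg.IrrCharacter G, ∑ k : (ZMod m)ˣ,
            ‖(χ : G → ℂ) (x ^ (k : ZMod m).val)‖ ^ 2 :=
          Finset.sum_le_sum_of_subset_of_nonneg (Finset.subset_univ _) fun χ _ _ =>
            Finset.sum_nonneg fun k _ => sq_nonneg _
      _ = ∑ _k : (ZMod m)ˣ, (cc x : ℝ) := by
          rw [Finset.sum_comm]
          refine Finset.sum_congr rfl fun k _ => ?_
          rw [sum_norm_sq_irr, cc, cent_pow_unit hm.symm k]
      _ = Fintype.card (ZMod m)ˣ * (cc x : ℝ) := by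
          rw [Finset.sum_const, Finset.card_univ, nsmul_eq_mul]
  rw [mul_comm] at hkey
  have hfin : S.card ≤ cc x :=
    Nat.cast_le.1 (le_of_mul_le_mul_left hkey (Nat.cast_pos.2 Fintype.card_pos))
  omega

end Cfsg.Lib.ClassSizePSL.Degrees
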