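import Cfsg.Agent.ClassSizePSL.Even
import Cfsg.Agent.Known.SLTwo.ClassSizes

/-!
# Class sizes of `PSL(2,q)`: the index of the centre, and the case of even `q`
-/

set_option autoImplicit false
set_option linter.unusedSectionVars false
set_option linter.style.haveILetI false

namespace Cfsg.Lib.ClassSizePSL

open Subgroup Cfsg.Lib.ClassSize

universe u

variable {G : Type u} [Group G] [Finite G]

theorem index_center_eq {x y z : G} (hx : Iso x) (hy : Iso y) (hne : cs x ≠ cs y) (hz : z ∉ center G)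
    (hgcd : ∀ s : ℕ, s.Prime → s ∣ cs x → s ∣ cs y → s ∣ cs z → False) {N cx cy : ℕ}
    (hdvd : N ∣ (center G).index) (hNx : cs x * cx = N) (hNy : cs y * cy = N)
    (hcx : cx ≠ 1) (hcy : cy ≠ 1) (hcopx : cx.Coprime (cs x)) (hcopy : cy.Coprime (cs y)) :
    (center G).index = N := by
  obtain ⟨d, hd⟩ := hdvd
  by_contra hne'
  obtain ⟨s, hs, hsd⟩ := Nat.exists_prime_and_dvd (fun e : d = 1 => hne' (by rw [hd, e, mul_one]))
  have hsN : s ∣ (center G).index := hd ▸ hsd.mul_left N
  have main : ∀ {a b : G}, Iso a → b ∉ center G → ∀ {c : ℕ}, cs a * c = N → c ≠ 1 →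
      c.Coprime (cs a) → s ∣ cs a →
      (¬ s ∣ cs b ∨ ¬ s ∣ cs z) → False := by
    intro a b ha hb c hc hc1 hcop hsa hor
    have hcz : cz a = c * d := by
      refine Nat.eq_of_mul_eq_mul_right (Nat.pos_of_ne_zero (index_ne_zero_of_finite
        (H := centralizer ({a} : Set G)))) ?_
      show cz a * cs a = c * d * cs a
      rw [cz_mul_cs, hd, ← hc]; ring
    obtain ⟨r₀, hr₀, hr₀c⟩ := Nat.exists_prime_and_dvd hc1
    have h₀ : r₀ ∣ (center G).index := by
      rw [hd, ← hc]; exact (hr₀c.mul_left _).mul_right _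
    have h₀a : ¬ r₀ ∣ cs a := fun h => hr₀.ne_one (Nat.eq_one_of_dvd_coprimes hcop hr₀c h)
    rcases hor with h | h
    · exact ha.not_dvd_cz hs hr₀ h₀ h₀a hsa hb h (hcz ▸ hsd.mul_left c)
    · exact ha.not_dvd_cz hs hr₀ h₀ h₀a hsa hz h (hcz ▸ hsd.mul_left c)
  rcases hx.cover hy hne hs hsN with hsx | hsy
  · exact main hx hy.1 hNx hcx hcopx hsx (or_iff_not_imp_left.2 fun h h' => hgcd s hs hsx (not_not.1 h) h')
  · exact main hy hx.1 hNy hcy hcopy hsy (or_iff_not_imp_left.2 fun h h' => hgcd s hs (not_not.1 h) hsy h')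

theorem cq_eq_cz {x : G} (h : (cz x).Coprime (cs x)) :
    cq x = cz x ∧ pre x = centralizer ({x} : Set G) := by
  obtain ⟨d, hd, hdvd, h1, hpr⟩ := cq_spec x
  have hd1 : d = 1 := by
    by_contra hne
    obtain ⟨s, hs, hsd⟩ := Nat.exists_prime_and_dvd hne
    exact hs.ne_one (Nat.eq_one_of_dvd_coprimes h (hpr s hs hsd) (hsd.trans hdvd))
  exact ⟨by rw [hd, hd1, mul_one], h1 hd1⟩

theorem quot_dichotomy {x : G} (hx : Iso x) (hcop : (cz x).Coprime (cs x)) :
    (∀ a ∈ centralizer ({(x : G ⧸ center G)} : Set (G ⧸ center G)),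
      ∀ b ∈ centralizer ({(x : G ⧸ center G)} : Set (G ⧸ center G)), Commute a b) ∨
    ∃ p : ℕ, p.Prime ∧ IsPGroup p (centralizer ({(x : G ⧸ center G)} : Set (G ⧸ center G))) := by
  obtain ⟨hcq, hpre⟩ := cq_eq_cz hcop
  rcases hx.dichotomy with hab | ⟨r, hr, hrz⟩
  · left
    intro a ha b hb
    induction a using QuotientGroup.induction_on with
    | _ a =>
      induction b using QuotientGroup.induction_on with
      | _ b =>
        have ha' : a ∈ centralizer ({x} : Set G) := hpre ▸ mem_pre.2 (mem_cent.1 ha)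
        have hb' : b ∈ centralizer ({x} : Set G) := hpre ▸ mem_pre.2 (mem_cent.1 hb)
        exact (hab a ha' b hb').map (QuotientGroup.mk' (center G))
  · right
    refine ⟨r, hr, ?_⟩
    haveI := Fact.mk hr
    refine IsPGroup.of_card (n := (cz x).primeFactorsList.length) ?_
    show cq x = _
    rw [hcq]
    refine Nat.eq_prime_pow_of_unique_prime_dvd ?_ ?_
    · exact index_ne_zero_of_finite (H := (center G).subgroupOf (centralizer ({x} : Set G)))
    · intro s hs hsd
      by_contra hne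
      obtain ⟨w, hw, hwo, hwZ⟩ := exists_ppow_not_mem hs hsd
      exact hwZ (hrz s hs hne w hw hwo)

theorem eq_one_of_pows {z : G} {a b c : ℕ} (ha : z ^ a = 1) (hb : z ^ b = 1) (hc : z ^ c = 1)
    (h : ∀ s : ℕ, s.Prime → s ∣ a → s ∣ b → s ∣ c → False) : z = 1 := by
  rw [← orderOf_eq_one_iff]
  by_contra hne
  obtain ⟨s, hs, hsd⟩ := Nat.exists_prime_and_dvd hne
  exact h s hs (hsd.trans (orderOf_dvd_of_pow_eq_one ha)) (hsd.trans (orderOf_dvd_of_pow_eq_one hb))
    (hsd.trans (orderOf_dvd_of_pow_eq_one hc))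

theorem mk_ne_one {x : G} (hx : x ∉ center G) : (x : G ⧸ center G) ≠ 1 := fun e =>
  hx ((QuotientGroup.eq_one_iff x).1 e)

theorem even_main {r : ℕ} (hodd : Odd r) (h3 : 3 ≤ r)
    (hr : Set.range (fun g : G => cs g) = {1, (r + 1) * r, r * (r + 2), (r + 1) * (r + 2)})
    {F : Type*} [Field F] [Fintype F] (hF : Fintype.card F = r + 1) :
    ∃ N A : Subgroup G, N.Normal ∧ A ≤ center G ∧ N ⊓ A = ⊥ ∧ N ⊔ A = ⊤ ∧
      Nonempty (N ≃* Matrix.ProjectiveSpecialLinearGroup (Fin 2) F) := by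
  obtain ⟨r0, hr0⟩ := hodd
  have hmem : ∀ y : G, y ∉ center G →
      cs y = (r + 1) * r ∨ cs y = r * (r + 2) ∨ cs y = (r + 1) * (r + 2) := by
    intro y hy
    have h := hr.le ⟨y, rfl⟩
    simp only [Set.mem_insert_iff, Set.mem_singleton_iff] at h
    exact h.resolve_left (fun e => hy (cs_eq_one_iff.1 e))
  have hex : ∀ {n : ℕ}, n ≠ 1 → n ∈ ({1, (r + 1) * r, r * (r + 2), (r + 1) * (r + 2)} : Set ℕ) →
      ∃ y, y ∉ center G ∧ cs y = n := by
    intro n hn hm
    obtain ⟨y, rfl⟩ := hr.ge hm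
    exact ⟨y, fun h => hn (cs_eq_one_iff.2 h), rfl⟩
  have e1 : (r + 1) * r < r * (r + 2) := by rw [mul_comm]; exact Nat.mul_lt_mul_of_pos_left (by omega) (by omega)
  have e2 : r * (r + 2) < (r + 1) * (r + 2) := Nat.mul_lt_mul_of_pos_right (by omega) (by omega)
  have hA : (r + 1).Coprime r := by simp [Nat.coprime_self_add_left]
  have hB : (r + 1).Coprime (r + 2) := Nat.coprime_self_add_right.2 (Nat.coprime_one_right (r + 1))
  have hC : r.Coprime (r + 2) := Nat.coprime_self_add_right.2 (Nat.coprime_two_right.2 ⟨r0, hr0⟩)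
  have nd1 : ¬ (r + 1) * r ∣ r * (r + 2) := fun h => by
    have := Nat.eq_one_of_dvd_coprimes hB dvd_rfl
      (Nat.dvd_of_mul_dvd_mul_left (show 0 < r by omega) (by rwa [mul_comm (r + 1)] at h))
    omega
  have nd2 : ¬ (r + 1) * r ∣ (r + 1) * (r + 2) := fun h => by
    have := Nat.eq_one_of_dvd_coprimes hC dvd_rfl (Nat.dvd_of_mul_dvd_mul_left (show 0 < r + 1 by omega) h)
    omega
  have nd3 : ¬ r * (r + 2) ∣ (r + 1) * (r + 2) := fun h => by
    have := Nat.eq_one_of_dvd_coprimes hA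
      (Nat.dvd_of_mul_dvd_mul_right (show 0 < r + 2 by omega) h) dvd_rfl
    omega
  have p0 : 0 < (r + 1) * r := Nat.mul_pos (by omega) (by omega)
  have hiso : ∀ y : G, y ∉ center G → Iso y := by
    intro y hy
    refine ⟨hy, fun w hw hd => ?_⟩
    rcases hmem y hy with ey | ey | ey <;> rcases hmem w hw with ew | ew | ew <;>
      rw [ey, ew] at hd ⊢ <;> rcases hd with hd | hd <;>
      first
        | exact absurd hd nd1 | exact absurd hd nd2 | exact absurd hd nd3
        | (exfalso; have := Nat.le_of_dvd (by omega) hd; omega)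
  have pow1 : (r + 1) * r ≠ 1 := by intro e; have := Nat.eq_one_of_mul_eq_one_right e; omega
  obtain ⟨x3, hx3, c3⟩ := hex (n := (r + 1) * r) pow1 (by simp)
  obtain ⟨x1, hx1, c1⟩ := hex (n := r * (r + 2)) (by omega) (by simp)
  obtain ⟨x2, hx2, c2⟩ := hex (n := (r + 1) * (r + 2)) (by omega) (by simp)
  have hgcd : ∀ s : ℕ, s.Prime → s ∣ r * (r + 2) → s ∣ (r + 1) * (r + 2) → s ∣ (r + 1) * r → False := by
    intro s hs h1 h2 h3
    rcases hs.dvd_mul.1 h1 with a | a <;> rcases hs.dvd_mul.1 h2 with b | b <;> rcases hs.dvd_mul.1 h3 with c | c <;>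
      first
        | exact hs.ne_one (Nat.eq_one_of_dvd_coprimes hA b a)
        | exact hs.ne_one (Nat.eq_one_of_dvd_coprimes hA c a)
        | exact hs.ne_one (Nat.eq_one_of_dvd_coprimes hB b a)
        | exact hs.ne_one (Nat.eq_one_of_dvd_coprimes hB c a)
        | exact hs.ne_one (Nat.eq_one_of_dvd_coprimes hC a b)
        | exact hs.ne_one (Nat.eq_one_of_dvd_coprimes hC c a)
  have hN : (center G).index = (r + 1) * r * (r + 2) := by
    refine index_center_eq (hiso x1 hx1) (hiso x2 hx2) (by omega) hx3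
      (by rw [c1, c2, c3]; exact hgcd) (cx := r + 1) (cy := r) ?_ (by rw [c1]; ring) (by rw [c2]; ring)
      (by omega) (by omega) (by rw [c1]; exact hA.mul_right hB) (by rw [c2]; exact hA.symm.mul_right hC)
    rw [mul_assoc]
    exact Nat.Coprime.mul_dvd_of_dvd_of_dvd (hA.mul_right hB)
      ((dvd_mul_right _ r).trans (c3 ▸ cs_dvd_index x3)) (c1 ▸ cs_dvd_index x1)
  have hczv : ∀ y : G, y ∉ center G → ((cz y = r + 1 ∨ cz y = r ∨ cz y = r + 2) ∧ (cz y).Coprime (cs y)) := by
    intro y hy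
    have h := cz_mul_cs y
    rw [hN] at h
    rcases hmem y hy with e | e | e
    · have : cz y = r + 2 := Nat.eq_of_mul_eq_mul_right p0 (by rw [← e, h, e]; ring)
      exact ⟨.inr (.inr this), by rw [this, e]; exact hB.symm.mul_right hC.symm⟩
    · have : cz y = r + 1 := Nat.eq_of_mul_eq_mul_right (show 0 < r * (r + 2) by omega) (by rw [← e, h, e]; ring)
      exact ⟨.inl this, by rw [this, e]; exact hA.mul_right hB⟩
    · have : cz y = r := Nat.eq_of_mul_eq_mul_right (show 0 < (r + 1) * (r + 2) by omega) (by rw [← e, h, e]; ring)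
      exact ⟨.inr (.inl this), by rw [this, e]; exact hA.symm.mul_right hC⟩
  have hq := Even.main_quot (P := G ⧸ center G) ⟨r0, hr0⟩ h3 hN
    (fun p hp => by
      induction p using QuotientGroup.induction_on with
      | _ y =>
        have hy : y ∉ center G := fun h => hp ((QuotientGroup.eq_one_iff y).2 h)
        rw [show cc (y : G ⧸ center G) = cz y from (cq_eq_cz (hczv y hy).2).1]
        exact (hczv y hy).1)
    (fun p hp => by
      induction p using QuotientGroup.induction_on with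
      | _ y =>
        have hy : y ∉ center G := fun h => hp ((QuotientGroup.eq_one_iff y).2 h)
        exact quot_dichotomy (hiso y hy) (hczv y hy).2)
  obtain ⟨hab, K, iK, iKt, hK, ⟨e⟩⟩ := hq
  obtain ⟨e'⟩ := psl_congr (hK.trans hF.symm)
  refine split_of_inf (psl_commutator_eq_top (by omega)) (e.trans e') fun z hz hz' => ?_
  have key : ∀ y : G, y ∉ center G → z ^ cs y = 1 := by
    intro y hy
    refine pow_index_eq_one ?_ hz hz'
    intro a ha b hb
    exact cent_abelian (fun a ha b hb => hab _ (mk_ne_one hy) _ (mem_cent.2 (mem_pre.1 ha)) _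
        (mem_cent.2 (mem_pre.1 hb)))
      (fun u _ hu => (cq_eq_cz (hczv u hu).2).2) a (cent_le_pre y ha) b (cent_le_pre y hb)
  exact eq_one_of_pows (c1 ▸ key x1 hx1) (c2 ▸ key x2 hx2) (c3 ▸ key x3 hx3) hgcd

end Cfsg.Lib.ClassSizePSL
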