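import Cfsg.Agent.ClassSizePSL.OddCount

/-!
# Class sizes of `PSL(2,q)`, `q` odd: the centraliser of an involution
-/

set_option autoImplicit false
set_option linter.unusedSectionVars false
set_option linter.style.haveILetI false

namespace Cfsg.Lib.ClassSizePSL.OddQ

open Subgroup Cfsg.Lib.ClassSize Cfsg.Lib.ClassSizePSL

universe u

variable {P : Type u} [Group P] {q h k : ℕ}

/-- The centraliser of an involution `z` is `L ∪ aL`. -/
structure Frame (P : Type u) [Group P] (q h k : ℕ) (z a : P) (L : Subgroup P) : Prop where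
  hz : orderOf z = 2
  ha : orderOf a = 2
  zL : z ∈ L
  aL : a ∉ L
  cardL : Nat.card L = h
  ab : ∀ x ∈ L, ∀ y ∈ L, Commute x y
  inv : ∀ x ∈ L, a * x * a⁻¹ = x⁻¹
  ccz : cc z = 2 * h
  centz : ∀ x : P, x ∈ centralizer ({z} : Set P) ↔ x ∈ L ∨ a⁻¹ * x ∈ L
  uniq : ∀ x ∈ L, x * x = 1 → x = 1 ∨ x = z
  centL : ∀ x ∈ L, x * x ≠ 1 → centralizer ({x} : Set P) = L
  conj : ∀ x : P, orderOf x = 2 → IsConj x z
  ninv : {x : P | orderOf x = 2}.ncard = q * k
  invol : ∀ x : P, cc x = 2 * h → orderOf x = 2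
  nE : ∀ x : P, cc x ∣ 2 * h → orderOf x ≠ 2 → ∃ g : P, g * x * g⁻¹ ∈ L

namespace Hyp

variable (H : Hyp P q h k) [Finite P]
include H

theorem not_real {a w : P} (hw : cc w = 2 * h) (hw2 : w * w ≠ 1) (ha : a * w * a⁻¹ = w⁻¹) : False := by
  set C := centralizer ({w} : Set P) with hC
  let S : Subgroup P :=
    { carrier := {g | g * w * g⁻¹ = w ∨ g * w * g⁻¹ = w⁻¹}
      one_mem' := .inl (by group)
      mul_mem' := fun {g l} hg hl => by
        have e : g * l * w * (g * l)⁻¹ = g * (l * w * l⁻¹) * g⁻¹ := by group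
        have e' : g * w⁻¹ * g⁻¹ = (g * w * g⁻¹)⁻¹ := by group
        rcases hl with h1 | h1 <;> rcases hg with h2 | h2
        · left; rw [e, h1, h2]
        · right; rw [e, h1, h2]
        · right; rw [e, h1, e', h2]
        · left; rw [e, h1, e', h2, inv_inv]
      inv_mem' := fun {g} hg => by
        rcases hg with h1 | h1
        · left
          calc g⁻¹ * w * g⁻¹⁻¹ = g⁻¹ * (g * w * g⁻¹) * g⁻¹⁻¹ := by rw [h1]
            _ = w := by group
        · right
          have h2 : g * w⁻¹ * g⁻¹ = w := by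
            rw [show g * w⁻¹ * g⁻¹ = (g * w * g⁻¹)⁻¹ by group, h1, inv_inv]
          calc g⁻¹ * w * g⁻¹⁻¹ = g⁻¹ * (g * w⁻¹ * g⁻¹) * g⁻¹⁻¹ := by rw [h2]
            _ = w⁻¹ := by group }
  have hCS : C ≤ S := fun g hg => .inl (mul_inv_eq_iff_eq_mul.2 (mem_cent.1 hg).eq)
  have hmem : ∀ g : P, g ∈ C ↔ g * w * g⁻¹ = w := fun g => by
    rw [hC, mem_cent, mul_inv_eq_iff_eq_mul]; rfl
  have hne : w⁻¹ ≠ w := fun e => hw2 (by nth_rw 1 [← e]; exact inv_mul_cancel w)
  have hidx : (C.subgroupOf S).index = 2 := by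
    rw [index_eq_two_iff]
    refine ⟨⟨a, .inr ha⟩, fun b => ?_⟩
    have e : (b : P) * a * w * ((b : P) * a)⁻¹ = ((b : P) * w * (b : P)⁻¹)⁻¹ := by
      rw [show (b : P) * a * w * ((b : P) * a)⁻¹ = (b : P) * (a * w * a⁻¹) * (b : P)⁻¹ by group, ha]
      group
    simp only [mem_subgroupOf, coe_mul, hmem, e]
    rcases b.2 with h1 | h1
    · exact .inr ⟨h1, by rw [h1]; exact hne⟩
    · exact .inl ⟨by rw [h1, inv_inv], by rw [h1]; exact hne⟩
  have hcard : Nat.card S = 2 * h * 2 := by
    rw [← (C.subgroupOf S).card_mul_index, hidx, Nat.card_congr (subgroupOfEquivOfLe hCS).toEquiv]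
    exact congrArg (· * 2) hw
  have hd := card_subgroup_dvd_card S
  rw [hcard, H.card, show 2 * q * h * k = 2 * h * (q * k) by ring] at hd
  have h2 := Nat.dvd_of_mul_dvd_mul_left (show 0 < 2 * h by have := H.h4; omega) hd
  obtain ⟨a', ha'⟩ := H.q_odd
  obtain ⟨b', hb'⟩ := H.k_odd
  rcases Nat.prime_two.dvd_mul.1 h2 with h | h <;> omega

theorem sum_split [Fintype P] [DecidableEq P] (f : P → ℕ) :
    ∑ w ∈ Finset.univ.filter (fun w : P => w ≠ 1), f w =
      ∑ w ∈ Finset.univ.filter (fun w : P => cc w = q), f w +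
      ∑ w ∈ Finset.univ.filter (fun w : P => cc w ∣ k), f w +
      ∑ w ∈ Finset.univ.filter (fun w : P => cc w ∣ 2 * h), f w := by
  rw [← Finset.sum_union (Finset.disjoint_left.2 fun x h1 h2 => by
      simp only [Finset.mem_filter, Finset.mem_univ, true_and] at h1 h2
      exact H.disjoint_qk (H.ne_one (.inl h1)) ⟨h1, h2⟩),
    ← Finset.sum_union (Finset.disjoint_left.2 fun x h1 h2 => by
      simp only [Finset.mem_union, Finset.mem_filter, Finset.mem_univ, true_and] at h1 h2
      rcases h1 with h1 | h1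
      · exact H.disjoint_qh (H.ne_one (.inl h1)) ⟨h1, h2⟩
      · exact H.disjoint_kh (H.ne_one (.inr (.inl h1))) ⟨h1, h2⟩)]
  refine Finset.sum_congr ?_ fun _ _ => rfl
  ext x
  simp only [Finset.mem_union, Finset.mem_filter, Finset.mem_univ, true_and]
  constructor
  · intro hx; have := H.cent x hx; tauto
  · intro hx; exact H.ne_one (by tauto)

theorem exists_invol_comm {u : P} (hu : cc u ∣ 2 * h) (hu1 : u ≠ 1) (hu2 : orderOf u ≠ 2) :
    ∃ v : P, v ≠ 1 ∧ orderOf v ≠ 2 ∧ cc v ∣ 2 * h ∧ Commute u v ∧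
      ∃ i : P, orderOf i = 2 ∧ Commute i v := by
  haveI : Fact (Nat.Prime 2) := ⟨Nat.prime_two⟩
  rcases Nat.even_or_odd (orderOf u) with he | ho
  · refine ⟨u, hu1, hu2, hu, Commute.refl u, u ^ (orderOf u / 2), ?_, (Commute.refl u).pow_left _⟩
    exact orderOf_pow_orderOf_div (orderOf_pos u).ne' he.two_dvd
  · obtain ⟨s, hs, hsd⟩ := Nat.exists_prime_and_dvd (fun e => hu1 (orderOf_eq_one_iff.1 e))
    set v := u ^ (orderOf u / s) with hv
    have hvo : orderOf v = s := orderOf_pow_orderOf_div (orderOf_pos u).ne' hsd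
    have hv1 : v ≠ 1 := fun e => hs.ne_one (by rw [← hvo, e, orderOf_one])
    have hvc : Commute u v := (Commute.refl u).pow_right _
    have hvE := H.E_of_comm hu hv1 hvc
    have hvev := H.evenPP v hv1 hvE ⟨s, 1, hs, by rw [hvo, pow_one]⟩
    obtain ⟨⟨i, hi⟩, hio⟩ := exists_prime_orderOf_dvd_card' (G := centralizer ({v} : Set P)) 2 hvev
    refine ⟨v, hv1, fun e => ?_, hvE, hvc, i, by rwa [orderOf_mk] at hio, mem_cent.1 hi⟩
    rw [hvo] at e
    obtain ⟨m, hm⟩ := ho
    obtain ⟨c, hc⟩ := hsd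
    rw [e] at hc
    omega

set_option maxHeartbeats 1600000 in
theorem exists_frame : ∃ (z a : P) (L : Subgroup P), Frame P q h k z a L := by
  classical
  haveI := Fintype.ofFinite P
  haveI : Fact (Nat.Prime 2) := ⟨Nat.prime_two⟩
  have h4 := H.h4
  have k3 := H.k3
  have hsum := H.sum
  obtain ⟨hc0, hcT, hcE⟩ := H.counts
  set I := Finset.univ.filter fun a : P => orderOf a = 2 with hI
  set N : P → ℕ := fun w => (Finset.univ.filter fun a : P => orderOf a = 2 ∧ orderOf (a * w) = 2).card with hN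
  have htr : ∀ p : P → Prop, ∀ [DecidablePred p], {x : P | p x}.ncard = (Finset.univ.filter p).card := by
    intro p _; rw [← Set.ncard_coe_finset, Finset.coe_filter]; simp
  have hb0 : ∑ w ∈ Finset.univ.filter (fun w : P => cc w = q), N w ≤ 4 * (h * k) * q := by
    refine (Finset.sum_le_card_nsmul _ _ q fun w hw => ?_).trans ?_
    · simp only [Finset.mem_filter, Finset.mem_univ, true_and] at hw
      exact (H.card_inverters_le (w := w)).trans hw.le
    · rw [smul_eq_mul, ← htr, hc0]
  have hbT : ∑ w ∈ Finset.univ.filter (fun w : P => cc w ∣ k), N w ≤ q * h * (k - 1) * k := by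
    refine (Finset.sum_le_card_nsmul _ _ k fun w hw => ?_).trans ?_
    · simp only [Finset.mem_filter, Finset.mem_univ, true_and] at hw
      exact (H.card_inverters_le (w := w)).trans (Nat.le_of_dvd (by omega) hw)
    · rw [smul_eq_mul, ← htr]
      refine Nat.mul_le_mul_right _ (Nat.le_of_mul_le_mul_left ?_ (show 0 < 2 by omega))
      rw [hcT]; ring_nf; rfl
  have hEc : (Finset.univ.filter fun w : P => cc w ∣ 2 * h).card = q * k * (h - 1) := by
    rw [← htr]; exact hcE
  have hbE : ∑ w ∈ Finset.univ.filter (fun w : P => cc w ∣ 2 * h), N w ≤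
      q * k * (h - 1) * (2 * h) := by
    refine (Finset.sum_le_card_nsmul _ _ (2 * h) fun w hw => ?_).trans ?_
    · simp only [Finset.mem_filter, Finset.mem_univ, true_and] at hw
      exact (H.card_inverters_le (w := w)).trans (Nat.le_of_dvd (by omega) hw)
    · rw [smul_eq_mul, hEc]
  -- the number of involutions
  have hIinv : ∀ x ∈ {x : P | orderOf x = 2}, ∀ g : P, g * x * g⁻¹ ∈ {x : P | orderOf x = 2} :=
    fun x hx g => by
      show orderOf (g * x * g⁻¹) = 2
      rw [← MulAut.conj_apply, MulEquiv.orderOf_eq]; exact hx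
  obtain ⟨jn, hn⟩ := dvd_ncard_of_invariant' (n := q * k) {x : P | orderOf x = 2} hIinv
    (fun x hx => H.dvd_cs_2h (H.E_of_invol hx))
  obtain ⟨t, ht⟩ := exists_prime_orderOf_dvd_card' (G := P) 2 (by
    rw [H.card]; exact ((dvd_mul_right 2 q).mul_right h).mul_right k)
  have hpos : 0 < {x : P | orderOf x = 2}.ncard := (Set.ncard_pos (Set.toFinite _)).2 ⟨t, ht⟩
  rw [hn] at hpos
  have hsum' : q * k * jn * (q * k * jn) - q * k * jn =
      ∑ w ∈ Finset.univ.filter (fun w : P => cc w = q), N w +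
      ∑ w ∈ Finset.univ.filter (fun w : P => cc w ∣ k), N w +
      ∑ w ∈ Finset.univ.filter (fun w : P => cc w ∣ 2 * h), N w := by
    have e := H.pair_sum
    rw [H.sum_split, hn] at e
    exact e
  obtain ⟨h', hh'⟩ : ∃ h', h = h' + 1 := ⟨h - 1, by omega⟩
  obtain ⟨k', hk'⟩ : ∃ k', k = k' + 1 := ⟨k - 1, by omega⟩
  have hqk : 0 < q * k := Nat.mul_pos (by omega) (by omega)
  have hh1 : h - 1 = h' := by omega
  have hk1 : k - 1 = k' := by omega
  have hj : jn = 1 := by
    rcases lt_trichotomy jn 1 with h0 | h0 | h0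
    · exfalso
      rw [show jn = 0 by omega, mul_zero] at hpos
      omega
    · exact h0
    · exfalso
      obtain ⟨j, hj⟩ : ∃ j, jn = j + 2 := ⟨jn - 2, by omega⟩
      rw [hj] at hsum'
      rw [hh1] at hbE; rw [hk1] at hbT
      have hub : q * k * (j + 2) * (q * k * (j + 2)) ≤
          q * k * (j + 2) + (4 * (h * k) * q + q * h * k' * k + q * k * h' * (2 * h)) := by omega
      rw [show q * k * (j + 2) + (4 * (h * k) * q + q * h * k' * k + q * k * h' * (2 * h))
          = (q * k) * (j + 2 + 4 * h + h * k' + h' * (2 * h)) by ring,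
        show q * k * (j + 2) * (q * k * (j + 2)) = (q * k) * ((j + 2) * (q * k * (j + 2))) by ring] at hub
      have hub' := Nat.le_of_mul_le_mul_left hub hqk
      have e1 : (j + 2) * (q * k * 2) ≤ (j + 2) * (q * k * (j + 2)) :=
        Nat.mul_le_mul_left _ (Nat.mul_le_mul_left _ (by omega))
      have e2 : (j + 2) * (q * k * 2) ≤ j + 2 + 4 * h + h * k' + h' * (2 * h) := e1.trans hub'
      have e3 : j ≤ j * (q * k * 2) := Nat.le_mul_of_pos_right _ (by omega)
      have e4 : 2 + 4 * h + h * k' + h' * (2 * h) < 2 * (q * k * 2) := by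
        subst hk' hh'
        rcases H.eps with e | e
        · have e' : k' = h' + 1 := by omega
          subst e'
          rw [hsum]; ring_nf; omega
        · have e' : h' = k' + 1 := by omega
          subst e'
          rw [hsum]; ring_nf; omega
      rw [add_mul] at e2
      omega
  have hn1 : {x : P | orderOf x = 2}.ncard = q * k := by rw [hn, hj, mul_one]
  rw [hj, mul_one] at hsum'
  have hcc : ∀ x : P, orderOf x = 2 → cc x = 2 * h := fun x hx => by
    have h1 : cs x ≤ q * k := by
      rw [← card_cls, ← hn1, Nat.card_coe_set_eq]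
      exact Set.ncard_le_ncard (by rintro _ ⟨g, rfl⟩; exact hIinv x hx g)
    have h2 : cs x = q * k := le_antisymm h1
      (Nat.le_of_dvd (Nat.pos_of_ne_zero index_ne_zero_of_finite) (H.dvd_cs_2h (H.E_of_invol hx)))
    refine Nat.eq_of_mul_eq_mul_right hqk ?_
    nth_rw 1 [← h2]
    rw [cc_mul_cs, H.card]
    ring
  have hcls : ∀ x : P, orderOf x = 2 → {y : P | orderOf y = 2} = cls x := fun x hx =>
    eq_cls_of_ncard (n := q * k) _ (fun y hy g => by
      show orderOf (g * y * g⁻¹) = 2
      rw [← MulAut.conj_apply, MulEquiv.orderOf_eq]; exact hy) (fun y hy => H.cs_2h (hcc y hy)) hn1 hx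
  -- many inverters of elements with centralisers of order `2h`, `h`
  have hlow : q * k * (h * (h - 1)) ≤
      ∑ w ∈ Finset.univ.filter (fun w : P => cc w ∣ 2 * h), N w := by
    rw [hh1]; rw [hk1] at hbT
    rcases H.eps with e | e
    · have e2 : q * k * (q * k) = q * k + 4 * (h * k) * q + q * h * k' * k + q * k * (h * h') := by
        subst hk' hh'
        have e' : k' = h' + 1 := by omega
        subst e'; rw [hsum]; ring
      omega
    · have h0 : ∑ w ∈ Finset.univ.filter (fun w : P => cc w = q), N w = 0 := by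
        refine Finset.sum_eq_zero fun w hw => Finset.card_eq_zero.2 (Finset.filter_eq_empty_iff.2 ?_)
        intro x _ hx
        exact H.not_inverted e hx.1 (Finset.mem_filter.1 hw).2 (inverts_of_mul hx.1 hx.2)
      have e2 : q * k * (q * k) = q * k + q * h * k' * k + q * k * (h * h') := by
        subst hk' hh'
        have e' : h' = k' + 1 := by omega
        subst e'; rw [hsum]; ring
      change _ = (∑ w ∈ Finset.univ.filter (fun w : P => cc w = q), N w) + _ + _ at hsum'
      omega
  -- involutions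
  have hIsub : I ⊆ Finset.univ.filter (fun w : P => cc w ∣ 2 * h) := fun x hx => by
    simp only [hI, Finset.mem_filter, Finset.mem_univ, true_and] at hx ⊢
    exact H.E_of_invol hx
  set R := Finset.univ.filter (fun w : P => cc w ∣ 2 * h) \ I with hR
  have hIc : I.card = q * k := by rw [hI, ← htr]; exact hn1
  have hRc : R.card = q * k * (h - 2) := by
    rw [hR, Finset.card_sdiff_of_subset hIsub, hEc, hIc, show h - 1 = h - 2 + 1 by omega, mul_add,
      mul_one, Nat.add_sub_cancel]
  have hsub : ∀ w ∈ I, (Finset.univ.filter fun a : P => orderOf a = 2 ∧ orderOf (a * w) = 2) ⊆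
      ((Finset.univ.filter fun a : P => a ∈ centralizer ({w} : Set P)).erase 1).erase w := by
    intro w hw x hx
    simp only [hI, Finset.mem_filter, Finset.mem_univ, true_and] at hw hx
    simp only [Finset.mem_erase, Finset.mem_filter, Finset.mem_univ, true_and]
    refine ⟨?_, ?_, ?_⟩
    · intro e
      rw [e, mul_self_of_orderOf hw, orderOf_one] at hx
      omega
    · intro e
      rw [e, orderOf_one] at hx
      omega
    · have e := inverts_of_mul hx.1 hx.2
      rw [inv_eq_of_mul_eq_one_left (mul_self_of_orderOf hw)] at e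
      exact mem_cent.2 (mul_inv_eq_iff_eq_mul.1 e)
  have hcardC : ∀ w ∈ I,
      (((Finset.univ.filter fun a : P => a ∈ centralizer ({w} : Set P)).erase 1).erase w).card = 2 * h - 2 := by
    intro w hw
    simp only [hI, Finset.mem_filter, Finset.mem_univ, true_and] at hw
    have hw1 : w ≠ 1 := fun e => by rw [e, orderOf_one] at hw; omega
    rw [Finset.card_erase_of_mem (Finset.mem_erase.2 ⟨hw1, Finset.mem_filter.2
        ⟨Finset.mem_univ _, mem_cent.2 (Commute.refl w)⟩⟩),
      Finset.card_erase_of_mem (Finset.mem_filter.2 ⟨Finset.mem_univ _, one_mem _⟩),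
      ← Fintype.card_subtype, ← Nat.card_eq_fintype_card]
    show cc w - 1 - 1 = _
    rw [hcc w hw]; omega
  obtain ⟨w, hwR, hwN⟩ : ∃ w ∈ R, h ≤ N w := by
    by_contra hcon
    push Not at hcon
    rw [← Finset.sum_sdiff hIsub, ← hR] at hlow
    have h1 : ∑ x ∈ R, N x ≤ R.card • (h - 1) := Finset.sum_le_card_nsmul _ _ (h - 1) fun x hx => by
      have := hcon x hx
      omega
    rw [smul_eq_mul, hRc] at h1
    have hle : ∀ x ∈ I, N x ≤ 2 * h - 2 := fun x hx => by
      rw [← hcardC x hx]; exact Finset.card_le_card (hsub x hx)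
    have hall : ∀ x ∈ I, N x = 2 * h - 2 := by
      by_contra hc
      push Not at hc
      obtain ⟨x, hx, hxne⟩ := hc
      have h2 : ∑ y ∈ I, N y < ∑ _y ∈ I, (2 * h - 2) :=
        Finset.sum_lt_sum hle ⟨x, hx, lt_of_le_of_ne (hle x hx) hxne⟩
      rw [Finset.sum_const, smul_eq_mul, hIc] at h2
      have e3 : q * k * (h * (h - 1)) = q * k * (h - 2) * (h - 1) + q * k * (2 * h - 2) := by
        obtain ⟨h'', rfl⟩ : ∃ h'', h = h'' + 2 := ⟨h - 2, by omega⟩
        simp only [show h'' + 2 - 1 = h'' + 1 by omega, Nat.add_sub_cancel,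
          show 2 * (h'' + 2) - 2 = 2 * (h'' + 1) by omega]
        ring
      omega
    obtain ⟨u, hu⟩ : R.Nonempty := by
      rw [← Finset.card_pos, hRc]; exact Nat.mul_pos hqk (by omega)
    simp only [hR, hI, Finset.mem_sdiff, Finset.mem_filter, Finset.mem_univ, true_and] at hu
    obtain ⟨v, hv1, hv2, -, -, i, hi, hiv⟩ := H.exists_invol_comm hu.1 (H.ne_one (.inr (.inr hu.1))) hu.2
    have hiI : i ∈ I := Finset.mem_filter.2 ⟨Finset.mem_univ _, hi⟩
    have heq := Finset.eq_of_subset_of_card_le (hsub i hiI) (by rw [hcardC i hiI]; exact (hall i hiI).ge)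
    have hmem : v ∈ ((Finset.univ.filter fun a : P => a ∈ centralizer ({i} : Set P)).erase 1).erase i :=
      Finset.mem_erase.2 ⟨fun e => hv2 (e ▸ hi), Finset.mem_erase.2 ⟨hv1,
        Finset.mem_filter.2 ⟨Finset.mem_univ _, mem_cent.2 hiv.symm⟩⟩⟩
    rw [← heq, Finset.mem_filter] at hmem
    exact hv2 hmem.2.1
  simp only [hR, hI, Finset.mem_sdiff, Finset.mem_filter, Finset.mem_univ, true_and] at hwR
  obtain ⟨hwE, hwI⟩ := hwR
  have hw1 : w ≠ 1 := H.ne_one (.inr (.inr hwE))
  have hsq : ∀ {x : P}, x ≠ 1 → x * x = 1 → orderOf x = 2 := fun hx e =>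
    orderOf_eq_prime (by rw [pow_two]; exact e) hx
  have hw2 : w * w ≠ 1 := fun e => hwI (hsq hw1 e)
  set T := Finset.univ.filter fun a : P => orderOf a = 2 ∧ orderOf (a * w) = 2 with hT
  obtain ⟨a, ha⟩ : T.Nonempty := Finset.card_pos.1 (lt_of_lt_of_le (by omega) hwN)
  simp only [hT, Finset.mem_filter, Finset.mem_univ, true_and] at ha
  have haw := inverts_of_mul ha.1 ha.2
  have hwc : cc w = h := by
    have h1 : h ≤ cc w := hwN.trans (H.card_inverters_le (w := w))
    obtain ⟨e, he⟩ := id hwE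
    rcases lt_trichotomy e 2 with h2 | h2 | h2
    · interval_cases e
      · omega
      · exact absurd (show cc w = 2 * h by omega) (fun e => H.not_real e hw2 haw)
    · subst h2; omega
    · have := Nat.mul_le_mul h1 h2
      rw [← he] at this
      omega
  set L := centralizer ({w} : Set P) with hL
  have haL : a ∉ L := fun hm => hw2 (by
    rw [mul_inv_eq_iff_eq_mul.2 (mem_cent.1 hm).eq] at haw
    nth_rw 2 [haw]; exact mul_inv_cancel w)
  have haa := mul_self_of_orderOf ha.1
  -- `a` inverts `L`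
  have hinvL : ∀ x ∈ L, a * x * a⁻¹ = x⁻¹ := by
    have himg : Finset.image (fun x => a * x) T = Finset.univ.filter fun x : P => x ∈ L := by
      refine Finset.eq_of_subset_of_card_le (fun y hy => ?_) ?_
      · obtain ⟨x, hx, rfl⟩ := Finset.mem_image.1 hy
        simp only [hT, Finset.mem_filter, Finset.mem_univ, true_and] at hx ⊢
        have e := inverts_of_mul hx.1 hx.2
        refine mem_cent.2 ?_
        show a * x * w = w * (a * x)
        calc a * x * w = a * (x * w * x⁻¹) * x := by group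
          _ = (a * w * a⁻¹)⁻¹ * a * x := by rw [e]; group
          _ = w * (a * x) := by rw [haw]; group
      · rw [Finset.card_image_of_injective _ (mul_right_injective a), ← Fintype.card_subtype,
          ← Nat.card_eq_fintype_card]
        exact hwc.le.trans hwN
    intro x hx
    have : x ∈ Finset.image (fun x => a * x) T := himg ▸ Finset.mem_filter.2 ⟨Finset.mem_univ _, hx⟩
    obtain ⟨y, hy, rfl⟩ := Finset.mem_image.1 this
    simp only [hT, Finset.mem_filter, Finset.mem_univ, true_and] at hy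
    exact inverts_of_mul ha.1 (by rw [← mul_assoc, haa, one_mul]; exact hy.1)
  have habL : ∀ x ∈ L, ∀ y ∈ L, Commute x y := fun x hx y hy => by
    have e := hinvL _ (L.mul_mem hx hy)
    rw [show a * (x * y) * a⁻¹ = a * x * a⁻¹ * (a * y * a⁻¹) by group, hinvL x hx, hinvL y hy,
      ← mul_inv_rev] at e
    exact (inv_injective e).symm
  have hcentL : ∀ x ∈ L, x * x ≠ 1 → centralizer ({x} : Set P) = L := fun x hx hx2 => by
    have hx1 : x ≠ 1 := fun e => hx2 (by rw [e, mul_one])
    have hle : L ≤ centralizer ({x} : Set P) := fun y hy => mem_cent.2 (habL y hy x hx)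
    have hd := card_dvd_of_le hle
    rw [show Nat.card L = h from hwc] at hd
    rw [show Nat.card (centralizer ({x} : Set P)) = cc x from rfl] at hd
    rcases H.cent x hx1 with e | e | e
    · have := Nat.eq_one_of_dvd_coprimes H.cop_qh (e ▸ hd) dvd_rfl; omega
    · have := Nat.eq_one_of_dvd_coprimes H.cop_hk dvd_rfl (hd.trans e); omega
    · obtain ⟨c, hc⟩ := hd
      rw [hc, mul_comm 2 h] at e
      rcases (Nat.dvd_prime Nat.prime_two).1 (Nat.dvd_of_mul_dvd_mul_left (show 0 < h by omega) e) with rfl | rfl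
      · exact (eq_of_le_of_card_ge hle ((hc.trans (mul_one h)).trans hwc.symm).le).symm
      · exact absurd (hinvL x hx) (fun hh => H.not_real (hc.trans (mul_comm h 2)) hx2 hh)
  obtain ⟨⟨z, hzL⟩, hz⟩ := exists_prime_orderOf_dvd_card' (G := L) 2
    (show 2 ∣ cc w by rw [hwc]; exact H.even.two_dvd)
  rw [orderOf_mk] at hz
  have hax : ∀ x ∈ L, orderOf (a * x) = 2 := fun x hx => by
    refine hsq (fun e => haL (by rw [eq_inv_of_mul_eq_one_left e]; exact inv_mem hx)) ?_
    calc a * x * (a * x) = a * x * a⁻¹ * (a * a) * x := by group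
      _ = 1 := by rw [hinvL x hx, haa, mul_one, inv_mul_cancel]
  -- the centraliser of an involution of `L`
  have hcentz : ∀ z ∈ L, orderOf z = 2 → ∀ x : P,
      x ∈ centralizer ({z} : Set P) ↔ x ∈ L ∨ a⁻¹ * x ∈ L := by
    intro z hzL hz
    have hzc : a * z * a⁻¹ = z := by
      rw [hinvL z hzL, inv_eq_of_mul_eq_one_left (mul_self_of_orderOf hz)]
    have haC : a ∈ centralizer ({z} : Set P) := mem_cent.2 (mul_inv_eq_iff_eq_mul.1 hzc)
    have hLC : L ≤ centralizer ({z} : Set P) := fun y hy => mem_cent.2 (habL y hy z hzL)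
    have hcov : (L : Set P) ∪ (fun y => a * y) '' (L : Set P) = centralizer ({z} : Set P) := by
      refine Set.eq_of_subset_of_ncard_le (Set.union_subset hLC ?_) ?_
      · rintro _ ⟨y, hy, rfl⟩; exact mul_mem haC (hLC hy)
      · rw [Set.ncard_union_eq (Set.disjoint_left.2 fun y hy h' => by
            obtain ⟨y', hy', rfl⟩ := h'
            exact haL (by simpa using mul_mem hy (inv_mem hy'))),
          Set.ncard_image_of_injective _ (mul_right_injective a), ← Nat.card_coe_set_eq,
          ← Nat.card_coe_set_eq]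
        show cc z ≤ cc w + cc w
        rw [hcc z hz, hwc]; omega
    intro x
    rw [← SetLike.mem_coe, ← hcov]
    constructor
    · rintro (h | ⟨y, hy, rfl⟩)
      · exact .inl h
      · exact .inr (by simpa using hy)
    · rintro (h | h)
      · exact .inl h
      · exact .inr ⟨_, h, mul_inv_cancel_left a x⟩
  -- every other element of this kind is conjugate into `L`
  have hnE : ∀ x : P, cc x ∣ 2 * h → orderOf x ≠ 2 → ∃ g : P, g * x * g⁻¹ ∈ L := by
    intro x hx hx2
    have hx1 : x ≠ 1 := H.ne_one (.inr (.inr hx))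
    obtain ⟨v, hv1, hv2, -, hxv, i, hi, hiv⟩ := H.exists_invol_comm hx hx1 hx2
    have : z ∈ cls i := by rw [← hcls i hi]; exact hz
    obtain ⟨g, hg⟩ := this
    have hm : g * v * g⁻¹ ∈ centralizer ({z} : Set P) :=
      mem_cent.2 (hg ▸ (hiv.symm.map (MulAut.conj g).toMonoidHom))
    rcases (hcentz z hzL hz _).1 hm with h | h
    · refine ⟨g, ?_⟩
      have hsq2 : g * v * g⁻¹ * (g * v * g⁻¹) ≠ 1 := fun e => hv2 (hsq hv1 (by
        calc v * v = g⁻¹ * (g * v * g⁻¹ * (g * v * g⁻¹)) * g := by group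
          _ = 1 := by rw [e]; group))
      rw [← hcentL _ h hsq2]
      exact mem_cent.2 (hxv.map (MulAut.conj g).toMonoidHom)
    · exfalso
      refine hv2 ?_
      have := hax _ h
      rwa [mul_inv_cancel_left, ← MulAut.conj_apply, MulEquiv.orderOf_eq] at this
  have huniq : ∀ x ∈ L, x * x = 1 → x = 1 ∨ x = z := by
    intro ω hω hω2
    by_contra hne
    push Not at hne
    set K := centralizer ({z} : Set P) with hK
    set L' : Set P := {x | x ∈ L ∧ x * x ≠ 1} with hL'
    have hLc : L'.ncard + 3 ≤ h := by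
      have hz1 : z ≠ 1 := fun e => by rw [e, orderOf_one] at hz; omega
      have hsub : L' ∪ {1, z, ω} ⊆ (L : Set P) := by
        rintro y (hy | rfl | rfl | rfl)
        · exact hy.1
        · exact one_mem L
        · exact hzL
        · exact hω
      have h1 := Set.ncard_le_ncard hsub
      rw [Set.ncard_union_eq (Set.disjoint_left.2 fun y hy h' => by
          rcases h' with rfl | rfl | rfl
          · exact hy.2 (mul_one 1)
          · exact hy.2 (mul_self_of_orderOf hz)
          · exact hy.2 hω2),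
        Set.ncard_eq_three.2 ⟨1, z, ω, fun e => hz1 e.symm, fun e => hne.1 e.symm, fun e => hne.2 e.symm, rfl⟩,
        ← Nat.card_coe_set_eq (L : Set P)] at h1
      exact h1.trans hwc.le
    have hle : (↑R : Set P) ⊆ (fun t : (P ⧸ K) × L' => t.1.out * (t.2 : P) * t.1.out⁻¹) '' Set.univ := by
      intro x hx
      simp only [hR, hI, Finset.coe_sdiff, Set.mem_sdiff, Finset.coe_filter, Finset.mem_univ,
        true_and, Set.mem_setOf_eq] at hx
      obtain ⟨g, hg⟩ := hnE x hx.1 hx.2
      obtain ⟨η, hη⟩ := QuotientGroup.mk_out_eq_mul K g⁻¹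
      set y := g * x * g⁻¹ with hy
      have hy2 : y * y ≠ 1 := fun e => hx.2 (hsq (H.ne_one (.inr (.inr (by first | exact hx.1 | exact hx.dvd)))) (by
        calc x * x = g⁻¹ * (y * y) * g := by rw [hy]; group
          _ = 1 := by rw [e]; group))
      have hy' : (η : P)⁻¹ * y * η ∈ L := by
        rcases (hcentz z hzL hz _).1 η.2 with h | h
        · exact mul_mem (mul_mem (inv_mem h) hg) h
        · have : (η : P)⁻¹ * y * η = (a⁻¹ * η)⁻¹ * (a⁻¹ * y * a) * (a⁻¹ * η) := by group
          rw [this, show a⁻¹ * y * a = y⁻¹ by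
            rw [inv_eq_of_mul_eq_one_left haa, ← hinvL y hg, inv_eq_of_mul_eq_one_left haa]]
          exact mul_mem (mul_mem (inv_mem h) (inv_mem hg)) h
      refine ⟨(((g⁻¹ : P) : P ⧸ K), ⟨_, hy', fun e => hy2 ?_⟩), trivial, ?_⟩
      · calc y * y = η * ((η : P)⁻¹ * y * η * ((η : P)⁻¹ * y * η)) * (η : P)⁻¹ := by group
          _ = 1 := by rw [e]; group
      · simp only
        rw [hη, hy]; group
    have h2 := (Set.ncard_le_ncard hle).trans Set.ncard_image_le
    rw [Set.ncard_coe_finset, hRc, Set.ncard_univ, Nat.card_prod, Nat.card_coe_set_eq,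
      ← Subgroup.index, show K.index = q * k from H.cs_2h (hcc z hz)] at h2
    have := Nat.le_of_mul_le_mul_left h2 hqk
    omega
  refine ⟨z, a, L, hz, ha.1, hzL, haL, hwc, habL, hinvL, hcc z hz, hcentz z hzL hz, huniq, hcentL,
    fun x hx => ?_, hn1, fun x hx => ?_, hnE⟩
  · have : z ∈ cls x := by rw [← hcls x hx]; exact hz
    obtain ⟨g, hg⟩ := this
    exact isConj_iff.2 ⟨g, hg⟩
  · by_contra hne
    obtain ⟨g, hg⟩ := hnE x hx.dvd hne
    have hg2 : g * x * g⁻¹ * (g * x * g⁻¹) ≠ 1 := fun e => hne (hsq (H.ne_one (.inr (.inr (by first | exact hx.1 | exact hx.dvd)))) (by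
      calc x * x = g⁻¹ * (g * x * g⁻¹ * (g * x * g⁻¹)) * g := by group
        _ = 1 := by rw [e]; group))
    have e := congrArg (fun S : Subgroup P => Nat.card S) (hcentL _ hg hg2)
    rw [show Nat.card (centralizer ({g * x * g⁻¹} : Set P)) = cc (g * x * g⁻¹) from rfl, cc_conj, hx,
      show Nat.card L = h from hwc] at e
    omega

end Hyp

end Cfsg.Lib.ClassSizePSL.OddQ
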