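import Cfsg.Agent.ClassSizePSL.Count

/-!
# Class sizes of `PSL(2,q)`, `q` odd: counting in the central quotient
-/

set_option autoImplicit false
set_option linter.unusedSectionVars false
set_option linter.style.haveILetI false

namespace Cfsg.Lib.ClassSizePSL.OddQ

open Subgroup Cfsg.Lib.ClassSize Cfsg.Lib.ClassSizePSL

universe u

/-- The situation in the central quotient. -/
structure Hyp (P : Type u) [Group P] (q h k : ℕ) : Prop where
  sum : q = h + k
  eps : k = h + 1 ∨ h = k + 1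
  even : Even h
  h4 : 4 ≤ h
  qpow : ∃ p a : ℕ, p.Prime ∧ q = p ^ a
  card : Nat.card P = 2 * q * h * k
  cent : ∀ x : P, x ≠ 1 → cc x = q ∨ cc x ∣ k ∨ cc x ∣ 2 * h
  evenPP : ∀ x : P, x ≠ 1 → cc x ∣ 2 * h → (∃ s j : ℕ, s.Prime ∧ orderOf x = s ^ j) → 2 ∣ cc x

variable {P : Type u} [Group P] {q h k : ℕ}

theorem mul_self_of_orderOf {a : P} (h : orderOf a = 2) : a * a = 1 := by
  rw [← pow_two, ← h, pow_orderOf_eq_one]

theorem inverts_of_mul {a w : P} (ha : orderOf a = 2) (h : orderOf (a * w) = 2) :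
    a * w * a⁻¹ = w⁻¹ := by
  rw [inv_eq_of_mul_eq_one_left (mul_self_of_orderOf ha)]
  refine eq_inv_of_mul_eq_one_left ?_
  calc a * w * a * w = a * w * (a * w) := by group
    _ = 1 := mul_self_of_orderOf h

theorem conj_set (c : ℕ) : ∀ x ∈ {x : P | cc x = c}, ∀ g : P, g * x * g⁻¹ ∈ {x : P | cc x = c} :=
  fun x hx g => by
    show cc (g * x * g⁻¹) = c
    rw [cc, cent_conj, card_map_of_injective (MulEquiv.injective _)]
    exact hx

namespace Hyp

variable (H : Hyp P q h k)
include H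

theorem qq : q * q = 4 * (h * k) + 1 := by
  rcases H.eps with e | e <;> rw [H.sum, e] <;> ring

theorem k_odd : Odd k := by
  obtain ⟨u, hu⟩ := H.even
  rcases H.eps with e | e
  · exact ⟨u, by omega⟩
  · exact ⟨u - 1, by have := H.h4; omega⟩

theorem k3 : 3 ≤ k := by
  have := H.h4
  rcases H.eps with e | e <;> omega

theorem q_odd : Odd q := by
  rw [H.sum]; exact H.even.add_odd H.k_odd

theorem cop_hk : h.Coprime k := by
  rcases H.eps with e | e <;> rw [e]
  · exact Nat.coprime_self_add_right.2 (Nat.coprime_one_right h)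
  · exact Nat.coprime_self_add_left.2 (Nat.coprime_one_left k)

theorem cop_qh : q.Coprime h := by
  rw [H.sum, Nat.coprime_self_add_left]
  exact H.cop_hk.symm

theorem cop_qk : q.Coprime k := by
  rw [H.sum, Nat.coprime_add_self_left]
  exact H.cop_hk

theorem cop_q2h : q.Coprime (2 * h) := (Nat.coprime_two_right.2 H.q_odd).mul_right H.cop_qh

theorem cop_k2h : k.Coprime (2 * h) := (Nat.coprime_two_right.2 H.k_odd).mul_right H.cop_hk.symm

theorem cop_q2hk : q.Coprime (2 * h * k) := H.cop_q2h.mul_right H.cop_qk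

theorem h2_lt : 2 * h < Nat.card P ∧ q < Nat.card P ∧ k < Nat.card P ∧ h < Nat.card P := by
  have h4 := H.h4
  have k3 := H.k3
  have hs := H.sum
  rw [H.card]
  have e1 : q * 2 ≤ 2 * q * h * k := by
    rw [show 2 * q * h * k = q * 2 * (h * k) by ring]
    exact Nat.le_mul_of_pos_right _ (Nat.mul_pos (by omega) (by omega))
  have e2 : h * 4 ≤ 2 * q * h * k := by
    rw [show 2 * q * h * k = h * (2 * q * k) by ring]
    exact Nat.mul_le_mul_left _ (Nat.le_trans (by omega : 4 ≤ 2 * q) (Nat.le_mul_of_pos_right _ (by omega)))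
  refine ⟨?_, ?_, ?_, ?_⟩ <;> omega

variable [Finite P]

theorem ne_one {x : P} (hx : cc x = q ∨ cc x ∣ k ∨ cc x ∣ 2 * h) : x ≠ 1 := by
  rintro rfl
  have e : cc (1 : P) = Nat.card P := by
    rw [cc, show centralizer ({1} : Set P) = ⊤ from
      eq_top_iff.2 fun a _ => mem_cent.2 (Commute.one_right a), card_top]
  rw [e] at hx
  have := H.h2_lt
  have := H.h4
  have := H.k3
  rcases hx with h | h | h
  · omega
  · have := Nat.le_of_dvd (by omega) h; omega
  · have := Nat.le_of_dvd (by omega) h; omega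

theorem cc_ne_one {x : P} (hx : x ≠ 1) : cc x ≠ 1 := fun e =>
  hx ((eq_bot_iff_forall _).1 (Subgroup.card_eq_one.1 e) x (mem_cent.2 (Commute.refl x)))

theorem cs_q {x : P} (hx : cc x = q) : cs x = 2 * h * k := cs_eq_of_cc hx (by rw [H.card]; ring)

theorem cs_2h {x : P} (hx : cc x = 2 * h) : cs x = q * k := cs_eq_of_cc hx (by rw [H.card]; ring)

theorem dvd_cs_k {x : P} (hx : cc x ∣ k) : 2 * q * h ∣ cs x := by
  obtain ⟨e, he⟩ := hx
  refine ⟨e, cs_eq_of_cc (c := cc x) rfl ?_⟩
  rw [H.card]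
  calc cc x * (2 * q * h * e) = 2 * q * h * (cc x * e) := by ring
    _ = 2 * q * h * k := by rw [← he]

theorem dvd_cs_2h {x : P} (hx : cc x ∣ 2 * h) : q * k ∣ cs x := by
  obtain ⟨e, he⟩ := hx
  refine ⟨e, cs_eq_of_cc (c := cc x) rfl ?_⟩
  rw [H.card]
  calc cc x * (q * k * e) = q * k * (cc x * e) := by ring
    _ = q * k * (2 * h) := by rw [← he]
    _ = 2 * q * h * k := by ring

theorem disjoint_qk {x : P} (hx : x ≠ 1) : ¬ (cc x = q ∧ cc x ∣ k) := fun h =>
  H.cc_ne_one hx (Nat.eq_one_of_dvd_coprimes H.cop_qk h.1.dvd h.2)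

theorem disjoint_qh {x : P} (hx : x ≠ 1) : ¬ (cc x = q ∧ cc x ∣ 2 * h) := fun h' =>
  H.cc_ne_one hx (Nat.eq_one_of_dvd_coprimes H.cop_q2h h'.1.dvd h'.2)

theorem disjoint_kh {x : P} (hx : x ≠ 1) : ¬ (cc x ∣ k ∧ cc x ∣ 2 * h) := fun h' =>
  H.cc_ne_one hx (Nat.eq_one_of_dvd_coprimes H.cop_k2h h'.1 h'.2)

theorem not_coprime {x y : P} (hy : y ≠ 1) (hxy : Commute x y) : ¬ (cc x).Coprime (cc y) := fun hc =>
  hy (orderOf_eq_one_iff.1 (Nat.eq_one_of_dvd_coprimes hc
    (Subgroup.orderOf_dvd_natCard _ (mem_cent.2 hxy.symm))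
    (Subgroup.orderOf_dvd_natCard _ (mem_cent.2 (Commute.refl y)))))

/-- The elements whose centralisers have order dividing `2h`. -/
def SE (_H : Hyp P q h k) : Set P := {x | cc x ∣ 2 * h}

theorem q_of_comm {x y : P} (hx : cc x = q) (hy : y ≠ 1) (hxy : Commute x y) : cc y = q := by
  have hn := H.not_coprime hy hxy
  rw [hx] at hn
  rcases H.cent y hy with e | e | e
  · exact e
  · exact absurd (H.cop_qk.coprime_dvd_right e) hn
  · exact absurd (H.cop_q2h.coprime_dvd_right e) hn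

theorem k_of_comm {x y : P} (hx : cc x ∣ k) (hy : y ≠ 1) (hxy : Commute x y) : cc y ∣ k := by
  have hn := H.not_coprime hy hxy
  rcases H.cent y hy with e | e | e
  · rw [e] at hn
    exact absurd (H.cop_qk.symm.coprime_dvd_left hx) hn
  · exact e
  · exact absurd ((H.cop_k2h.coprime_dvd_left hx).coprime_dvd_right e) hn

theorem E_of_comm {x y : P} (hx : cc x ∣ 2 * h) (hy : y ≠ 1) (hxy : Commute x y) : cc y ∣ 2 * h := by
  have hn := H.not_coprime hy hxy
  rcases H.cent y hy with e | e | e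
  · rw [e] at hn
    exact absurd (H.cop_q2h.symm.coprime_dvd_left hx) hn
  · exact absurd ((H.cop_k2h.symm.coprime_dvd_left hx).coprime_dvd_right e) hn
  · exact e

theorem E_of_even {x : P} (hx : x ≠ 1) (hd : 2 ∣ cc x) : cc x ∣ 2 * h := by
  obtain ⟨a, ha⟩ := H.q_odd
  rcases H.cent x hx with e | e | e
  · rw [e] at hd; omega
  · obtain ⟨b, hb⟩ := H.k_odd
    have := hd.trans e
    omega
  · exact e

theorem E_of_invol {x : P} (hx : orderOf x = 2) : cc x ∣ 2 * h :=
  H.E_of_even (fun e => by rw [e, orderOf_one] at hx; omega)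
    (hx ▸ Subgroup.orderOf_dvd_natCard _ (mem_cent.2 (Commute.refl x)))

theorem counts : {x : P | cc x = q}.ncard = 4 * (h * k) ∧ 2 * {x : P | cc x ∣ k}.ncard = 2 * q * h * (k - 1) ∧
    H.SE.ncard = q * k * (h - 1) := by
  have h4 := H.h4
  have k3 := H.k3
  have hq := H.sum
  obtain ⟨m0, hm0⟩ := dvd_ncard_of_invariant (n := 2 * h * k) {x : P | cc x = q} (conj_set q)
    (fun x hx => H.cs_q hx)
  obtain ⟨mT, hmT⟩ := dvd_ncard_of_invariant' (n := 2 * q * h) {x : P | cc x ∣ k}
    (fun x hx g => by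
      show cc (g * x * g⁻¹) ∣ k
      rw [cc_conj]; exact hx)
    (fun x hx => H.dvd_cs_k hx)
  obtain ⟨a, ha⟩ := dvd_ncard_of_invariant' (n := q * k) {x : P | cc x ∣ 2 * h}
    (fun x hx g => by
      show cc (g * x * g⁻¹) ∣ 2 * h
      rw [cc_conj]; exact hx)
    (fun x hx => H.dvd_cs_2h hx)
  have hSE : H.SE.ncard = q * k * a := ha
  have htot : {x : P | cc x = q}.ncard + {x : P | cc x ∣ k}.ncard + H.SE.ncard + 1 = Nat.card P := by
    rw [← Set.ncard_union_eq (Set.disjoint_left.2 fun x h1 h2 => by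
        simp only [Set.mem_setOf_eq] at h1 h2
        exact H.disjoint_qk (H.ne_one (.inl h1)) ⟨h1, h2⟩),
      ← Set.ncard_union_eq (Set.disjoint_left.2 fun x h1 h2 => by
        simp only [SE, Set.mem_union, Set.mem_setOf_eq] at h1 h2
        rcases h1 with h1 | h1
        · exact H.disjoint_qh (H.ne_one (.inl h1)) ⟨h1, h2⟩
        · exact H.disjoint_kh (H.ne_one (.inr (.inl h1))) ⟨h1, h2⟩),
      ← Set.ncard_singleton (1 : P), ← Set.ncard_union_eq (Set.disjoint_left.2 fun x h1 h2 => by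
        rw [Set.mem_singleton_iff] at h2
        refine H.ne_one ?_ h2
        simp only [SE, Set.mem_union, Set.mem_setOf_eq] at h1
        tauto), ← Set.ncard_univ]
    congr 1
    ext x
    simp only [SE, Set.mem_union, Set.mem_setOf_eq, Set.mem_singleton_iff, Set.mem_univ, iff_true]
    rcases eq_or_ne x 1 with hx | hx
    · exact .inr hx
    · exact .inl (by have := H.cent x hx; tauto)
  rw [hm0, hmT, hSE, H.card] at htot
  have hqd : q ∣ 2 * h * k * m0 + 1 :=
    (Nat.dvd_add_right (b := q * (2 * h * mT + k * a)) (dvd_mul_right _ _)).1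
      ⟨2 * h * k, by
        rw [show q * (2 * h * mT + k * a) + (2 * h * k * m0 + 1) = 2 * q * h * k by
          rw [← htot]; ring]
        ring⟩
  have hm0' : m0 = 2 := by
    rcases lt_or_ge m0 2 with hlt | hge
    · exfalso
      interval_cases m0
      · have := Nat.le_of_dvd one_pos (by simpa using hqd); omega
      · have e : q ∣ (4 * (h * k) + 1) + 1 := by
          rw [show 4 * (h * k) + 1 + 1 = 2 * (2 * h * k * 1 + 1) by ring]; exact hqd.mul_left 2
        have := Nat.le_of_dvd one_pos ((Nat.dvd_add_right (H.qq ▸ dvd_mul_right q q)).1 e)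
        omega
    · obtain ⟨j, rfl⟩ := Nat.exists_eq_add_of_le hge
      have e : q ∣ (4 * (h * k) + 1) + 2 * h * k * j := by
        rw [show 4 * (h * k) + 1 + 2 * h * k * j = 2 * h * k * (2 + j) + 1 by ring]; exact hqd
      have hj := H.cop_q2hk.dvd_of_dvd_mul_left ((Nat.dvd_add_right (H.qq ▸ dvd_mul_right q q)).1 e)
      rcases Nat.eq_zero_or_pos j with rfl | hjp
      · rfl
      have := Nat.mul_le_mul_left (2 * h * k) (Nat.le_of_dvd hjp hj)
      nlinarith
  subst hm0'
  obtain ⟨A, hA⟩ : ∃ A, h * h = k * A + 1 := by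
    rcases H.eps with e | e
    · exact ⟨h - 1, by
        obtain ⟨v, rfl⟩ : ∃ v, h = v + 1 := ⟨h - 1, by omega⟩
        rw [e, Nat.add_sub_cancel]; ring⟩
    · exact ⟨k + 2, by rw [e]; ring⟩
  have hkd : k ∣ 2 * q * h * mT + 1 :=
    (Nat.dvd_add_right (b := k * (4 * h + q * a)) (dvd_mul_right _ _)).1
      ⟨2 * q * h, by
        rw [show k * (4 * h + q * a) + (2 * q * h * mT + 1) = 2 * q * h * k by
          rw [← htot]; ring]
        ring⟩
  have hkd' : k ∣ 2 * mT + 1 := by
    refine (Nat.dvd_add_right (b := k * (2 * mT * A + 2 * h * mT)) (dvd_mul_right _ _)).1 ?_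
    rw [show k * (2 * mT * A + 2 * h * mT) + (2 * mT + 1) = 2 * mT * (k * A + 1) + 2 * h * k * mT + 1 by ring,
      ← hA, show 2 * mT * (h * h) + 2 * h * k * mT + 1 = 2 * q * h * mT + 1 by rw [hq]; ring]
    exact hkd
  have hmT2 : 2 * mT + 1 = k := by
    obtain ⟨c, hc⟩ := hkd'
    rcases lt_or_ge c 2 with hc2 | hc2
    · interval_cases c <;> omega
    · rcases eq_or_lt_of_le hc2 with rfl | hc3
      · omega
      have h3 : 3 * k ≤ 2 * mT + 1 := by rw [hc, mul_comm 3]; exact Nat.mul_le_mul_left _ hc3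
      have h5 := Nat.mul_le_mul_left (q * h) h3
      nlinarith
  refine ⟨by rw [hm0]; ring, by rw [hmT, show k - 1 = 2 * mT by omega]; ring, ?_⟩
  rw [hSE]
  congr 1
  obtain ⟨v, hv⟩ : ∃ v, h = v + 1 := ⟨h - 1, by omega⟩
  rw [hv, Nat.add_sub_cancel]
  have e := H.qq
  refine Nat.eq_of_mul_eq_mul_left (show 0 < q * k from Nat.mul_pos (by omega) (by omega)) ?_
  have e2 : 2 * q * h * mT + q * h = q * h * k := by rw [← hmT2]; ring
  subst hv
  rw [hq] at *
  nlinarith

/-- The centralisers of order `k` are abelian. -/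
theorem abT {x : P} (hx : cc x = k)
    (hd : (∀ a ∈ centralizer ({x} : Set P), ∀ b ∈ centralizer ({x} : Set P), Commute a b) ∨
      ∃ p : ℕ, p.Prime ∧ IsPGroup p (centralizer ({x} : Set P)))
    (hcent : ∀ y : P, cc y ∣ k → cc y = k) :
    ∀ a ∈ centralizer ({x} : Set P), ∀ b ∈ centralizer ({x} : Set P), Commute a b := by
  rcases hd with hab | ⟨p, hp, hpg⟩
  · exact hab
  haveI := Fact.mk hp
  have hi : (centralizer ({x} : Set P)).index = 2 * q * h := cs_eq_of_cc hx (by rw [H.card]; ring)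
  have hset : {y : P | cc y = k} = {y : P | cc y ∣ k} :=
    Set.ext fun y => ⟨fun e => Eq.dvd e, hcent y⟩
  refine abelian_of_count hx H.k_odd hpg ?_ ?_ (by rw [hset, H.counts.2.1, hi])
  · rw [hi, show 2 * q * h = q * (2 * h) by ring]
    exact H.cop_qk.symm.mul_right H.cop_k2h
  · rw [hi]
    intro e
    have h1 := Nat.eq_one_of_mul_eq_one_left e
    have := H.h4
    omega

/-- Centralisers of order `q` are abelian when inverted by an involution, which needs
`q ≡ 1 (mod 4)`. -/
theorem not_inverted (hk : h = k + 1) {t w : P} (ht : orderOf t = 2) (hw : cc w = q)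
    (hinv : t * w * t⁻¹ = w⁻¹) : False := by
  classical
  obtain ⟨p, a, hp, hpa⟩ := H.qpow
  haveI := Fact.mk hp
  have ht1 : t ≠ 1 := fun e => by rw [e, orderOf_one] at ht; omega
  have hw1 : w ≠ 1 := H.ne_one (.inl hw)
  set K := centralizer ({w} : Set P) with hK
  have htt := mul_self_of_orderOf ht
  have hti : t⁻¹ = t := inv_eq_of_mul_eq_one_left htt
  -- `t` inverts the centraliser
  have hnorm : ∀ x ∈ K, t * x * t⁻¹ ∈ K := by
    intro x hx
    have e : Commute (t * x * t⁻¹) (t * w * t⁻¹) := (mem_cent.1 hx).map (MulAut.conj t).toMonoidHom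
    rw [hinv] at e
    exact mem_cent.2 (inv_inv w ▸ e.inv_right)
  have hKinv : ∀ x ∈ K, t * x * t⁻¹ = x⁻¹ := by
    let φ : K → K := fun x => ⟨(x : P)⁻¹ * (t * x * t⁻¹), K.mul_mem (K.inv_mem x.2) (hnorm x x.2)⟩
    have hinj : Function.Injective φ := by
      intro x y e
      have e' : (x : P)⁻¹ * (t * x * t⁻¹) = (y : P)⁻¹ * (t * y * t⁻¹) := congrArg Subtype.val e
      have hc : Commute ((y : P) * (x : P)⁻¹) t := by
        show (y : P) * (x : P)⁻¹ * t = t * ((y : P) * (x : P)⁻¹)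
        calc (y : P) * (x : P)⁻¹ * t = (y : P) * ((x : P)⁻¹ * (t * x * t⁻¹)) * t * (x : P)⁻¹ := by group
          _ = (y : P) * ((y : P)⁻¹ * (t * y * t⁻¹)) * t * (x : P)⁻¹ := by rw [e']
          _ = t * ((y : P) * (x : P)⁻¹) := by group
      have hmem : (y : P) * (x : P)⁻¹ ∈ K := K.mul_mem y.2 (K.inv_mem x.2)
      by_contra hne
      have hyx : (y : P) * (x : P)⁻¹ ≠ 1 := fun e => hne (Subtype.ext (mul_inv_eq_one.1 e).symm)
      have h1 := H.q_of_comm hw hyx (mem_cent.1 hmem).symm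
      have h2 := H.q_of_comm h1 ht1 hc
      exact H.disjoint_qh ht1 ⟨h2, H.E_of_invol ht⟩
    have hsurj := Finite.injective_iff_surjective.1 hinj
    intro x hx
    obtain ⟨⟨y, hy⟩, hy'⟩ := hsurj ⟨x, hx⟩
    have e : y⁻¹ * (t * y * t⁻¹) = x := congrArg Subtype.val hy'
    rw [← e]
    calc t * (y⁻¹ * (t * y * t⁻¹)) * t⁻¹ = t * y⁻¹ * t * y * (t⁻¹ * t⁻¹) := by group
      _ = t * y⁻¹ * t⁻¹ * y := by rw [hti, htt, mul_one]
      _ = (y⁻¹ * (t * y * t⁻¹))⁻¹ := by group
  have hab : ∀ x ∈ K, ∀ y ∈ K, Commute x y := fun x hx y hy => by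
    have e := hKinv _ (K.mul_mem hx hy)
    rw [show t * (x * y) * t⁻¹ = t * x * t⁻¹ * (t * y * t⁻¹) by group, hKinv x hx, hKinv y hy,
      ← mul_inv_rev] at e
    exact (inv_injective e).symm
  have hKq : ∀ x ∈ K, x ≠ 1 → cc x = q ∧ centralizer ({x} : Set P) = K := fun x hx hx1 => by
    have h1 := H.q_of_comm hw hx1 (mem_cent.1 hx).symm
    exact ⟨h1, (eq_of_le_of_card_ge (fun a ha => mem_cent.2 (hab a ha x hx)) (h1.trans hw.symm).le).symm⟩
  -- count the conjugates of `K`
  have hsyl : Nat.card K = p ^ (Nat.card P).factorization p := by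
    have hpos : a ≠ 0 := by
      rintro rfl
      rw [pow_zero] at hpa
      have := H.h4; have := H.sum; omega
    rw [show Nat.card K = q from hw, ← K.card_mul_index,
      Nat.factorization_mul Nat.card_pos.ne' index_ne_zero_of_finite, Finsupp.add_apply,
      show Nat.card K = q from hw, show K.index = 2 * h * k from H.cs_q hw,
      Nat.factorization_eq_zero_of_not_dvd (fun hd => hp.ne_one (Nat.eq_one_of_dvd_coprimes H.cop_q2hk
        (hpa ▸ dvd_pow_self p hpos) hd)), add_zero, hpa, hp.factorization_pow, Finsupp.single_eq_same]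
  let SK : Sylow p P := Sylow.ofCard K hsyl
  have hSK : (SK : Subgroup P) = K := rfl
  have hTab : ∀ T : Sylow p P, ∀ x ∈ (T : Subgroup P), x ≠ 1 →
      cc x = q ∧ centralizer ({x} : Set P) = (T : Subgroup P) := by
    intro T x hx hx1
    obtain ⟨g, rfl⟩ := MulAction.exists_smul_eq P SK T
    rw [Sylow.coe_subgroup_smul, hSK] at hx ⊢
    obtain ⟨y, hy, rfl⟩ := hx
    have hy1 : y ≠ 1 := fun e => hx1 (by subst e; exact map_one _)
    obtain ⟨h1, h2⟩ := hKq y hy hy1
    constructor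
    · show cc (g * y * g⁻¹) = q
      rw [cc_conj, h1]
    · show centralizer ({g * y * g⁻¹} : Set P) = _
      rw [cent_conj, h2]; rfl
  have hTc : ∀ T : Sylow p P, Nat.card (T : Subgroup P) = q := fun T => by
    rw [T.card_eq_multiplicity, ← hsyl]; exact hw
  let e : (Σ T : Sylow p P, {x : (T : Subgroup P) // x ≠ 1}) ≃ ↥{x : P | cc x = q} :=
    Equiv.ofBijective (fun s => ⟨(s.2.1 : P), (hTab s.1 _ s.2.1.2 (fun e => s.2.2 (Subtype.ext e))).1⟩)
      ⟨by
        rintro ⟨T, ⟨x, hx⟩, hx1⟩ ⟨T', ⟨x', hx'⟩, hx1'⟩ e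
        have e' : x = x' := congrArg Subtype.val e
        subst e'
        have hne : x ≠ 1 := fun e => hx1 (Subtype.ext e)
        have hTT : T = T' := Sylow.ext ((hTab T x hx hne).2.symm.trans (hTab T' x hx' hne).2)
        subst hTT
        rfl, by
        rintro ⟨x, hx⟩
        have hcard : Nat.card (centralizer ({x} : Set P)) = p ^ (Nat.card P).factorization p := by
          rw [← hsyl]; exact Eq.trans hx hw.symm
        exact ⟨⟨Sylow.ofCard _ hcard, ⟨x, mem_cent.2 (Commute.refl x)⟩,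
          fun e => H.ne_one (.inl hx) (congrArg Subtype.val e)⟩, rfl⟩⟩
  have hcnt := Nat.card_congr e
  haveI := Fintype.ofFinite (Sylow p P)
  rw [Nat.card_sigma, Nat.card_coe_set_eq, H.counts.1] at hcnt
  have hterm : ∀ T : Sylow p P, Nat.card {x : (T : Subgroup P) // x ≠ 1} = q - 1 := fun T => by
    rw [show Nat.card {x : (T : Subgroup P) // x ≠ 1} = ({1}ᶜ : Set (T : Subgroup P)).ncard from
      Nat.card_coe_set_eq _, Set.ncard_compl, Set.ncard_singleton, hTc T]
  rw [Finset.sum_congr rfl (fun T _ => hterm T), Finset.sum_const, smul_eq_mul, Finset.card_univ,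
    ← Nat.card_eq_fintype_card, SK.card_eq_index_normalizer] at hcnt
  have hidx : (normalizer (K : Set P)).index = 2 * h := by
    refine Nat.eq_of_mul_eq_mul_right (show 0 < q - 1 by have := H.h4; have := H.sum; omega) ?_
    rw [show (normalizer (K : Set P)).index * (q - 1) = 4 * (h * k) from hcnt, H.sum,
      show h + k - 1 = 2 * k by omega]
    ring
  have hN := (normalizer (K : Set P)).card_mul_index
  rw [hidx, H.card, show 2 * q * h * k = q * k * (2 * h) by ring] at hN
  have hNc := Nat.eq_of_mul_eq_mul_right (show 0 < 2 * h by have := H.h4; omega) hN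
  have htN : t ∈ normalizer (K : Set P) := by
    rw [mem_normalizer_iff]
    intro x
    refine ⟨hnorm x, fun hx => ?_⟩
    have := hnorm _ hx
    rwa [show t * (t * x * t⁻¹) * t⁻¹ = t * t * x * (t * t)⁻¹ by group, htt, one_mul, inv_one, mul_one] at this
  have h2 : 2 ∣ q * k := hNc ▸ ht ▸ Subgroup.orderOf_dvd_natCard _ htN
  obtain ⟨a', ha'⟩ := H.q_odd
  obtain ⟨b', hb'⟩ := H.k_odd
  rcases Nat.prime_two.dvd_mul.1 h2 with h | h <;> omega

theorem card_inverters_le {w : P} [Fintype P] [DecidableEq P] :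
    (Finset.univ.filter fun a : P => orderOf a = 2 ∧ orderOf (a * w) = 2).card ≤ cc w := by
  classical
  rcases (Finset.univ.filter fun a : P => orderOf a = 2 ∧ orderOf (a * w) = 2).eq_empty_or_nonempty with
    e | ⟨a₀, ha₀⟩
  · rw [e]; exact Nat.zero_le _
  rw [cc, Nat.card_eq_fintype_card, Fintype.card_subtype]
  refine Finset.card_le_card_of_injOn (fun a => a₀ * a) (fun a ha => ?_) (mul_right_injective a₀).injOn
  simp only [Finset.coe_filter, Finset.mem_univ, true_and, Set.mem_setOf_eq, Finset.mem_filter] at ha ha₀ ⊢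
  have e₁ := inverts_of_mul ha.1 ha.2
  have e₀ := inverts_of_mul ha₀.1 ha₀.2
  rw [mem_cent]
  show a₀ * a * w = w * (a₀ * a)
  calc a₀ * a * w = a₀ * (a * w * a⁻¹) * a := by group
    _ = (a₀ * w * a₀⁻¹)⁻¹ * a₀ * a := by rw [e₁]; group
    _ = w * (a₀ * a) := by rw [e₀]; group

theorem pair_sum [Fintype P] [DecidableEq P] :
    {a : P | orderOf a = 2}.ncard * {a : P | orderOf a = 2}.ncard - {a : P | orderOf a = 2}.ncard =
      ∑ w ∈ Finset.univ.filter (fun w : P => w ≠ 1),
        (Finset.univ.filter fun a : P => orderOf a = 2 ∧ orderOf (a * w) = 2).card := by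
  classical
  set I := Finset.univ.filter fun a : P => orderOf a = 2 with hI
  have hn : {a : P | orderOf a = 2}.ncard = I.card := by
    rw [← Set.ncard_coe_finset, hI, Finset.coe_filter]; simp
  rw [hn, ← Finset.offDiag_card]
  have hinvol : ∀ {a : P}, a ∈ I → a⁻¹ = a := fun {a} ha =>
    inv_eq_of_mul_eq_one_left (mul_self_of_orderOf (Finset.mem_filter.1 ha).2)
  rw [Finset.card_eq_sum_card_fiberwise (f := fun z : P × P => z.1⁻¹ * z.2)
    (t := Finset.univ.filter fun w : P => w ≠ 1) (fun z hz => by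
      simp only [Finset.mem_offDiag, Finset.mem_coe] at hz
      simp only [Finset.coe_filter, Finset.mem_univ, true_and, Set.mem_setOf_eq]
      exact fun e => hz.2.2 (inv_mul_eq_one.1 e))]
  refine Finset.sum_congr rfl fun w hw => ?_
  refine Finset.card_bij' (fun z _ => z.1) (fun a _ => (a, a * w)) ?_ ?_ ?_ ?_
  · intro z hz
    simp only [Finset.mem_filter, Finset.mem_offDiag] at hz
    obtain ⟨⟨h1, h2, -⟩, e⟩ := hz
    simp only [Finset.mem_filter, Finset.mem_univ, true_and]
    refine ⟨(Finset.mem_filter.1 h1).2, ?_⟩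
    rw [← e, mul_inv_cancel_left]
    exact (Finset.mem_filter.1 h2).2
  · intro a ha
    simp only [Finset.mem_filter, Finset.mem_univ, true_and] at ha hw
    simp only [Finset.mem_filter, Finset.mem_offDiag, hI, Finset.mem_univ, true_and]
    exact ⟨⟨ha.1, ha.2, fun e => hw (mul_eq_left.1 e.symm)⟩, inv_mul_cancel_left _ _⟩
  · intro z hz
    simp only [Finset.mem_filter, Finset.mem_offDiag] at hz
    refine Prod.ext rfl ?_
    rw [← hz.2, mul_inv_cancel_left]
  · intro a _; rfl

end Hyp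

end Cfsg.Lib.ClassSizePSL.OddQ
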