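import Cfsg.Agent.ClassSizePSL.OddSimple
import Cfsg.Agent.ClassSizePSL.EvenLift

/-!
# Class sizes of `PSL(2,q)`, `q` odd: from the central quotient to the group
-/

set_option autoImplicit false
set_option linter.unusedSectionVars false
set_option linter.style.haveILetI false

namespace Cfsg.Lib.ClassSizePSL

open Subgroup Cfsg.Lib.ClassSize
open scoped commutatorElement

universe u

/-- The class sizes of `PSL(2,q)` for odd `q`, with `h` even, `k` odd, `h + k = q`. -/
structure OddData (G : Type u) [Group G] (q h k : ℕ) : Prop where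
  sum : q = h + k
  eps : k = h + 1 ∨ h = k + 1
  even : Even h
  h4 : 4 ≤ h
  qpow : ∃ p a : ℕ, p.Prime ∧ q = p ^ a
  range : Set.range (fun g : G => cs g) = {1, 2 * h * k, q * k, 2 * (q * k), 2 * q * h}

namespace OddData

variable {G : Type u} [Group G] [Finite G] {q h k : ℕ} (D : OddData G q h k)
include D

theorem facts : Odd k ∧ Odd q ∧ 3 ≤ k ∧ h.Coprime k ∧ q.Coprime h ∧ q.Coprime k ∧
    q.Coprime (2 * h * k) ∧ k.Coprime (2 * q * h) ∧ (2 * h).Coprime (q * k) := by
  have h4 := D.h4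
  obtain ⟨u, hu⟩ := D.even
  have hk : Odd k := by
    rcases D.eps with e | e
    · exact ⟨u, by omega⟩
    · exact ⟨u - 1, by omega⟩
  have hq : Odd q := D.sum ▸ D.even.add_odd hk
  have hhk : h.Coprime k := by
    rcases D.eps with e | e <;> rw [e]
    · exact Nat.coprime_self_add_right.2 (Nat.coprime_one_right h)
    · exact Nat.coprime_self_add_left.2 (Nat.coprime_one_left k)
  have hqh : q.Coprime h := by rw [D.sum, Nat.coprime_self_add_left]; exact hhk.symm
  have hqk : q.Coprime k := by rw [D.sum, Nat.coprime_add_self_left]; exact hhk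
  have hq2 : q.Coprime 2 := Nat.coprime_two_right.2 hq
  have hk2 : k.Coprime 2 := Nat.coprime_two_right.2 hk
  refine ⟨hk, hq, ?_, hhk, hqh, hqk, (hq2.mul_right hqh).mul_right hqk,
    (hk2.mul_right hqk.symm).mul_right hhk.symm, ?_⟩
  · rcases D.eps with e | e <;> omega
  · exact (hq2.mul_right hqh).symm.mul_right (hk2.mul_right hhk.symm).symm

theorem mem {y : G} (hy : y ∉ center G) :
    cs y = 2 * h * k ∨ cs y = q * k ∨ cs y = 2 * (q * k) ∨ cs y = 2 * q * h := by
  have e := D.range.le ⟨y, rfl⟩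
  simp only [Set.mem_insert_iff, Set.mem_singleton_iff] at e
  exact e.resolve_left fun e => hy (cs_eq_one_iff.1 e)

theorem exists_elt {n : ℕ} (hn : n = 2 * h * k ∨ n = q * k ∨ n = 2 * q * h) :
    ∃ y, y ∉ center G ∧ cs y = n := by
  have h4 := D.h4
  have k3 := D.facts.2.2.1
  have hq := D.sum
  have hn1 : n ≠ 1 := by
    rintro rfl
    rcases hn with e | e | e <;> have := Nat.eq_one_of_mul_eq_one_left e.symm <;> omega
  obtain ⟨y, rfl⟩ := D.range.ge (show n ∈ _ by
    rcases hn with e | e | e <;> rw [e] <;> simp)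
  exact ⟨y, fun hc => hn1 (cs_eq_one_iff.2 hc), rfl⟩

theorem iso {y : G} (hy : y ∉ center G) (hs : cs y = 2 * h * k ∨ cs y = 2 * q * h) : Iso y := by
  obtain ⟨hk, hqo, k3, hhk, hqh, hqk, cq0, cqT, cqI⟩ := D.facts
  have h4 := D.h4
  have hsum := D.sum
  have n1 : ∀ {a b : ℕ}, a.Coprime b → a ∣ b → a = 1 := fun c d => Nat.eq_one_of_dvd_coprimes c dvd_rfl d
  have nq : ∀ n, q ∣ n → n ∣ 2 * h * k → False := fun n d d' => by
    have := n1 cq0 (d.trans d'); omega
  have nk : ∀ n, k ∣ n → n ∣ 2 * q * h → False := fun n d d' => by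
    have := n1 cqT (d.trans d'); omega
  have nh : ∀ n, 2 * h ∣ n → n ∣ q * k → False := fun n d d' => by
    have := n1 cqI (d.trans d'); omega
  have nhk : ¬ h ∣ k := fun d => by have := n1 hhk d; omega
  have nhq : ¬ h ∣ q := fun d => by have := n1 hqh.symm d; omega
  refine ⟨hy, fun w hw hd => ?_⟩
  rcases hs with e | e <;> rcases D.mem hw with e' | e' | e' | e' <;> rw [e, e'] at hd ⊢
  · exfalso
    rcases hd with hd | hd
    · exact nq _ (dvd_mul_right q k) hd
    · exact nh _ (dvd_mul_right (2 * h) k) hd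
  · exfalso
    rcases hd with hd | hd
    · exact nq _ ⟨2 * k, by ring⟩ hd
    · rw [mul_assoc] at hd
      exact nhq (hhk.dvd_of_dvd_mul_right
        ((dvd_mul_right h k).trans (Nat.dvd_of_mul_dvd_mul_left two_pos hd)))
  · exfalso
    rcases hd with hd | hd
    · exact nq _ ⟨2 * h, by ring⟩ hd
    · exact nk _ (dvd_mul_left k (2 * h)) hd
  · exfalso
    rcases hd with hd | hd
    · exact nk _ (dvd_mul_left k (2 * h)) hd
    · exact nq _ ⟨2 * h, by ring⟩ hd
  · exfalso
    rcases hd with hd | hd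
    · exact nk _ (dvd_mul_left k q) hd
    · exact nh _ ⟨q, by ring⟩ hd
  · exfalso
    rcases hd with hd | hd
    · exact nk _ ⟨2 * q, by ring⟩ hd
    · rw [mul_assoc] at hd
      exact nhk (Nat.dvd_of_mul_dvd_mul_left (show 0 < q by omega)
        (Nat.dvd_of_mul_dvd_mul_left two_pos hd))

theorem index_center : (center G).index = 2 * q * h * k := by
  obtain ⟨hk, hqo, k3, hhk, hqh, hqk, cq0, cqT, cqI⟩ := D.facts
  have h4 := D.h4
  have hsum := D.sum
  obtain ⟨x0, h0, e0⟩ := D.exists_elt (.inl rfl)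
  obtain ⟨xI, hI, eI⟩ := D.exists_elt (.inr (.inl rfl))
  obtain ⟨xT, hT, eT⟩ := D.exists_elt (.inr (.inr rfl))
  have hne : 2 * h * k ≠ 2 * q * h := fun e => by
    have := Nat.eq_of_mul_eq_mul_left (show 0 < 2 * h by omega) (e.trans (by ring : 2 * q * h = 2 * h * q))
    omega
  refine index_center_eq (D.iso h0 (.inl e0)) (D.iso hT (.inr eT)) (by rw [e0, eT]; exact hne) hI
    ?_ (cx := q) (cy := k) ?_ (by rw [e0]; ring) (by rw [eT]) (by omega) (by omega) (by rw [e0]; exact cq0)
    (by rw [eT]; exact cqT)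
  · rw [e0, eI, eT]
    intro s hs a b c
    rcases hs.dvd_mul.1 c with c | c
    · exact hs.ne_one (Nat.eq_one_of_dvd_coprimes cq0 c a)
    · exact hs.ne_one (Nat.eq_one_of_dvd_coprimes cqT c b)
  · rw [show 2 * q * h * k = q * (2 * h * k) by ring]
    exact cq0.mul_dvd_of_dvd_of_dvd ((dvd_mul_right q k).trans (eI ▸ cs_dvd_index xI)) (e0 ▸ cs_dvd_index x0)

/-- The centralisers of the images, by type. -/
theorem types {y : G} (hy : y ∉ center G) :
    (cs y = 2 * h * k ∧ cq y = q ∧ pre y = centralizer ({y} : Set G)) ∨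
    (cs y = q * k ∧ cq y = 2 * h ∧ pre y = centralizer ({y} : Set G)) ∨
    (cs y = 2 * q * h ∧ cq y = k ∧ pre y = centralizer ({y} : Set G)) ∨
    (cs y = 2 * (q * k) ∧ (cq y = h ∨ cq y = 2 * h) ∧ (cq y = h → pre y = centralizer ({y} : Set G))) := by
  obtain ⟨hk, hqo, k3, hhk, hqh, hqk, cq0, cqT, cqI⟩ := D.facts
  have h4 := D.h4
  have hsum := D.sum
  have hm := cz_mul_cs y
  rw [D.index_center] at hm
  rcases D.mem hy with e | e | e | e
  · have : cz y = q := Nat.eq_of_mul_eq_mul_right (show 0 < 2 * h * k from Nat.mul_pos (by omega) (by omega))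
      (by rw [← e, hm, e]; ring)
    obtain ⟨h1, h2⟩ := cq_eq_cz (x := y) (by rw [this, e]; exact cq0)
    exact .inl ⟨e, h1.trans this, h2⟩
  · have : cz y = 2 * h := Nat.eq_of_mul_eq_mul_right (show 0 < q * k from Nat.mul_pos (by omega) (by omega))
      (by rw [← e, hm, e]; ring)
    obtain ⟨h1, h2⟩ := cq_eq_cz (x := y) (by rw [this, e]; exact cqI)
    exact .inr (.inl ⟨e, h1.trans this, h2⟩)
  · have hcz : cz y = h := Nat.eq_of_mul_eq_mul_right
      (show 0 < 2 * (q * k) from Nat.mul_pos (by omega) (Nat.mul_pos (by omega) (by omega)))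
      (by rw [← e, hm, e]; ring)
    obtain ⟨d, hd, hdvd, h1, hpr⟩ := cq_spec y
    rw [hcz] at hd hpr
    rw [e] at hdvd
    have hcop : d.Coprime (q * k) := by
      refine Nat.coprime_of_dvd fun s hs hsd hsq => hs.ne_one ?_
      exact Nat.eq_one_of_dvd_coprimes cqI ((hpr s hs hsd).trans (dvd_mul_left h 2)) hsq
    have hd2 := hcop.dvd_of_dvd_mul_right hdvd
    have hd12 : d = 1 ∨ d = 2 := (Nat.dvd_prime Nat.prime_two).1 hd2
    refine .inr (.inr (.inr ⟨e, ?_, fun e' => h1 ?_⟩))
    · rcases hd12 with rfl | rfl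
      · exact .inl (hd.trans (mul_one h))
      · exact .inr (hd.trans (mul_comm h 2))
    · rw [e'] at hd
      exact ((Nat.mul_eq_left (show h ≠ 0 by omega)).1 hd.symm)
  · have : cz y = k := Nat.eq_of_mul_eq_mul_right (show 0 < 2 * q * h from Nat.mul_pos (by omega) (by omega))
      (by rw [← e, hm, e]; ring)
    obtain ⟨h1, h2⟩ := cq_eq_cz (x := y) (by rw [this, e]; exact cqT)
    exact .inr (.inr (.inl ⟨e, h1.trans this, h2⟩))

theorem cq_cases {y : G} (hy : y ∉ center G) : cq y = q ∨ cq y = k ∨ cq y = 2 * h ∨ cq y = h := by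
  have := D.types hy
  tauto

theorem hyp : OddQ.Hyp (G ⧸ center G) q h k := by
  obtain ⟨hk, hqo, k3, hhk, hqh, hqk, cq0, cqT, cqI⟩ := D.facts
  refine ⟨D.sum, D.eps, D.even, D.h4, D.qpow, D.index_center, fun p hp => ?_, fun p hp hc _ => ?_⟩ <;>
    induction p using QuotientGroup.induction_on with
    | _ y =>
      have hy : y ∉ center G := fun h => hp ((QuotientGroup.eq_one_iff y).2 h)
      first
        | (show cq y = q ∨ cq y ∣ k ∨ cq y ∣ 2 * h
           rcases D.cq_cases hy with e | e | e | e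
           · exact .inl e
           · exact .inr (.inl e.dvd)
           · exact .inr (.inr e.dvd)
           · exact .inr (.inr (e.dvd.trans (dvd_mul_left h 2))))
        | (change cq y ∣ 2 * h at hc
           show 2 ∣ cq y
           have h4 := D.h4
           rcases D.cq_cases hy with e | e | e | e
           · exfalso
             rw [e] at hc
             have := Nat.eq_one_of_dvd_coprimes cq0 (dvd_refl q) (hc.trans (dvd_mul_right (2 * h) k))
             have := D.sum
             omega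
           · exfalso
             rw [e] at hc
             have := Nat.eq_one_of_dvd_coprimes cqI hc (dvd_mul_left k q)
             omega
           · exact e ▸ dvd_mul_right 2 h
           · exact e ▸ D.even.two_dvd)

theorem cq_eq_k {p : G ⧸ center G} (hp : cc p ∣ k) : cc p = k := by
  obtain ⟨hk, hqo, k3, hhk, hqh, hqk, cq0, cqT, cqI⟩ := D.facts
  have hp1 : p ≠ 1 := D.hyp.ne_one (.inr (.inl hp))
  induction p using QuotientGroup.induction_on with
  | _ y =>
    have hy : y ∉ center G := fun h => hp1 ((QuotientGroup.eq_one_iff y).2 h)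
    change cq y ∣ k at hp
    show cq y = k
    have h4 := D.h4
    have hsum := D.sum
    rcases D.cq_cases hy with e | e | e | e
    · rw [e] at hp
      have := Nat.eq_one_of_dvd_coprimes hqk (dvd_refl q) hp
      omega
    · exact e
    · rw [e] at hp
      have := Nat.eq_one_of_dvd_coprimes cqI (dvd_refl (2 * h)) (hp.trans (dvd_mul_left k q))
      omega
    · rw [e] at hp
      have := Nat.eq_one_of_dvd_coprimes hhk (dvd_refl h) hp
      omega

theorem main_quot {F : Type*} [Field F] [Fintype F] (hF : Fintype.card F = q) :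
    Nonempty (G ⧸ center G ≃* Matrix.ProjectiveSpecialLinearGroup (Fin 2) F) := by
  obtain ⟨-, -, K, iK, iKt, hK, ⟨e⟩⟩ := D.hyp.isSimple_and_psl
  obtain ⟨e'⟩ := psl_congr (F := K) (K := F) (hK.trans hF.symm)
  exact ⟨e.trans e'⟩

theorem main {F : Type*} [Field F] [Fintype F] (hF : Fintype.card F = q) :
    ∃ N A : Subgroup G, N.Normal ∧ A ≤ center G ∧ N ⊓ A = ⊥ ∧ N ⊔ A = ⊤ ∧
      Nonempty (N ≃* Matrix.ProjectiveSpecialLinearGroup (Fin 2) F) := by
  obtain ⟨hk, hqo, k3, hhk, hqh, hqk, cq0, cqT, cqI⟩ := D.facts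
  have h4 := D.h4
  have hsum := D.sum
  obtain ⟨u, hu⟩ := D.even
  obtain ⟨v, hv⟩ := id hk
  obtain ⟨e⟩ := D.main_quot hF
  have H := D.hyp
  obtain ⟨-, habQ, -⟩ := H.isSimple_and_psl
  refine split_of_inf (psl_commutator_eq_top (by omega)) e fun c hc hc' => ?_
  -- abelian centralisers
  have h0 : c ^ (2 * h * k) = 1 := by
    obtain ⟨x, hx, ex⟩ := D.exists_elt (.inl rfl)
    rcases D.types hx with ⟨-, eq0, hp⟩ | ⟨e', -⟩ | ⟨e', -⟩ | ⟨e', -⟩
    · rw [← ex]
      refine pow_index_eq_one ?_ hc hc'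
      rw [← hp]
      refine cent_abelian (fun a ha b hb => habQ _ eq0 _ (mem_cent.2 (mem_pre.1 ha)) _
        (mem_cent.2 (mem_pre.1 hb))) fun w hw hwZ => ?_
      have hwq : cq w = q := H.q_of_comm eq0 (mk_ne_one hwZ) (mem_pre.1 hw).symm
      rcases D.types hwZ with ⟨-, -, t⟩ | ⟨-, -, t⟩ | ⟨-, -, t⟩ | ⟨-, t, -⟩ <;>
        first | exact t | (exfalso; omega)
    all_goals
      exfalso
      have := (D.iso hx (.inl ex)).1
      rw [ex] at e'
      first
        | (have := Nat.eq_one_of_dvd_coprimes cq0 (dvd_refl q) (e' ▸ dvd_mul_right q k); omega)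
        | (have := Nat.eq_one_of_dvd_coprimes cq0 (dvd_refl q) (e' ▸ (dvd_mul_left q 2).mul_right h); omega)
        | (have := Nat.eq_one_of_dvd_coprimes cq0 (dvd_refl q) (e' ▸ (dvd_mul_right q k).mul_left 2); omega)
  have hT : c ^ (2 * q * h) = 1 := by
    obtain ⟨x, hx, ex⟩ := D.exists_elt (.inr (.inr rfl))
    rcases D.types hx with ⟨e', -⟩ | ⟨e', -⟩ | ⟨-, eqT, hp⟩ | ⟨e', -⟩
    case inr.inr.inl =>
      rw [← ex]
      refine pow_index_eq_one ?_ hc hc'
      rw [← hp]
      have hdich : (cz x).Coprime (cs x) := by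
        have hm := cz_mul_cs x
        rw [D.index_center, ex, mul_comm] at hm
        rw [ex, Nat.eq_of_mul_eq_mul_left (show 0 < 2 * q * h from Nat.mul_pos (by omega) (by omega)) hm]
        exact cqT
      refine cent_abelian (fun a ha b hb => H.abT eqT (quot_dichotomy (D.iso hx (.inr ex)) hdich)
        (fun p hp => D.cq_eq_k hp) _ (mem_cent.2 (mem_pre.1 ha)) _
        (mem_cent.2 (mem_pre.1 hb))) fun w hw hwZ => ?_
      have hwk : cq w = k := D.cq_eq_k (H.k_of_comm eqT.dvd (mk_ne_one hwZ) (mem_pre.1 hw).symm)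
      rcases D.types hwZ with ⟨-, -, t⟩ | ⟨-, -, t⟩ | ⟨-, -, t⟩ | ⟨-, t, -⟩ <;>
        first | exact t | (exfalso; omega)
    all_goals
      exfalso
      rw [ex] at e'
      have hk1 : k ∣ 2 * q * h := by
        rw [e']
        first
          | exact dvd_mul_left k (2 * h)
          | exact dvd_mul_left k q
          | exact (dvd_mul_left k q).mul_left 2
      have := Nat.eq_one_of_dvd_coprimes cqT (dvd_refl k) hk1
      omega
  -- the centraliser of an involution
  obtain ⟨z, a, L, Fr⟩ := H.exists_frame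
  obtain ⟨xI, hxI, exI⟩ := D.exists_elt (.inr (.inl rfl))
  have hcI : cq xI = 2 * h ∧ pre xI = centralizer ({xI} : Set G) := by
    rcases D.types hxI with ⟨e', -⟩ | ⟨-, t1, t2⟩ | ⟨e', -⟩ | ⟨e', -⟩
    case inr.inl => exact ⟨t1, t2⟩
    all_goals
      exfalso
      rw [exI] at e'
      have h2 : 2 ∣ q * k := by
        rw [e']
        first
          | exact dvd_mul_right 2 (q * k)
          | exact (dvd_mul_right 2 h).mul_right k
          | exact (dvd_mul_right 2 q).mul_right h
      obtain ⟨w, hw⟩ := hqo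
      rcases Nat.prime_two.dvd_mul.1 h2 with h | h <;> omega
  obtain ⟨g, hg⟩ := isConj_iff.1 (Fr.conj _ (Fr.invol _ hcI.1))
  obtain ⟨g', rfl⟩ := QuotientGroup.mk'_surjective (center G) g
  set zt := g' * xI * g'⁻¹ with hzt
  have hztm : (zt : G ⧸ center G) = z := hg
  have hcs : cs zt = q * k := (cs_conj _ _).trans exI
  have hztp : pre zt = centralizer ({zt} : Set G) := by
    have hn : zt ∉ center G := by rw [← cs_eq_one_iff, hcs, ← exI, cs_eq_one_iff]; exact hxI
    rcases D.types hn with ⟨-, -, t⟩ | ⟨-, -, t⟩ | ⟨-, -, t⟩ | ⟨e', -⟩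
    · exact t
    · exact t
    · exact t
    · exfalso
      rw [hcs] at e'
      have : 0 < q * k := Nat.mul_pos (by omega) (by omega)
      omega
  obtain ⟨at', rfl⟩ := QuotientGroup.mk'_surjective (center G) a
  set Lt := L.comap (QuotientGroup.mk' (center G)) with hLt
  have hgen : ∀ w ∈ Lt, (w : G ⧸ center G) * w ≠ 1 → ∀ b ∈ Lt, Commute b w := by
    intro w hw hw2 b hb
    have e1 : centralizer ({(w : G ⧸ center G)} : Set (G ⧸ center G)) = L := Fr.centL _ hw hw2
    have hwZ : w ∉ center G := fun hh => hw2 (by rw [(QuotientGroup.eq_one_iff w).2 hh, mul_one])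
    have hcw : cq w = h := by rw [cq, e1]; exact Fr.cardL
    have hp : pre w = centralizer ({w} : Set G) := by
      rcases D.types hwZ with ⟨-, t, -⟩ | ⟨-, t, -⟩ | ⟨-, t, -⟩ | ⟨-, -, t⟩
      · omega
      · omega
      · omega
      · exact t hcw
    have : b ∈ pre w := by
      rw [mem_pre]
      exact Fr.ab _ hb _ hw
    rw [hp] at this
    exact mem_cent.1 this
  obtain ⟨w0, hw0, hw02⟩ : ∃ w ∈ Lt, (w : G ⧸ center G) * w ≠ 1 := by
    by_contra hcon
    push Not at hcon
    have hsub : (L : Set (G ⧸ center G)) ⊆ {1, z} := fun x hx => by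
      obtain ⟨w, rfl⟩ := QuotientGroup.mk'_surjective (center G) x
      exact Fr.uniq _ hx (hcon w hx)
    have h1 := (Set.ncard_le_ncard hsub).trans (Set.ncard_insert_le _ _)
    rw [Set.ncard_singleton, ← Nat.card_coe_set_eq] at h1
    change Nat.card L ≤ _ at h1
    rw [Fr.cardL] at h1
    omega
  have habL : ∀ x ∈ Lt, ∀ y ∈ Lt, Commute x y := by
    intro x hx y hy
    by_cases hy2 : (y : G ⧸ center G) * y = 1
    · have hyw : ((y * w0 : G) : G ⧸ center G) * (y * w0 : G) ≠ 1 := by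
        intro e
        refine hw02 ?_
        rw [QuotientGroup.mk_mul] at e
        have hc1 : (y : G ⧸ center G) * w0 = w0 * y := (Fr.ab _ hy _ hw0).eq
        calc (w0 : G ⧸ center G) * w0 = (y : G ⧸ center G) * y * (w0 * w0) := by rw [hy2, one_mul]
          _ = (y : G ⧸ center G) * (y * w0) * w0 := by group
          _ = (y : G ⧸ center G) * w0 * ((y : G ⧸ center G) * w0) := by
            rw [show (y : G ⧸ center G) * (y * w0) = y * (w0 * y) by rw [hc1]]; group
          _ = 1 := e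
      have h1 := hgen _ (mul_mem hy hw0) hyw x hx
      have h2 := h1.mul_right (hgen w0 hw0 hw02 x hx).inv_right
      rwa [mul_inv_cancel_right] at h2
    · exact hgen y hy hy2 x hx
  have hnorm : ∀ x ∈ Lt, at' * x * at'⁻¹ ∈ Lt := fun x hx => by
    have e := Fr.inv _ hx
    show ((at' * x * at'⁻¹ : G) : G ⧸ center G) ∈ L
    rw [QuotientGroup.mk_mul, QuotientGroup.mk_mul, QuotientGroup.mk_inv]
    exact e ▸ inv_mem hx
  -- the commutator map
  let φ : Lt →* G :=
    { toFun := fun x => (x : G) * at' * (x : G)⁻¹ * at'⁻¹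
      map_one' := by simp
      map_mul' := fun x y => by
        have hy' : (y : G) * at' * (y : G)⁻¹ * at'⁻¹ ∈ Lt := by
          have := mul_mem y.2 (hnorm _ (inv_mem y.2))
          rwa [← mul_assoc, ← mul_assoc] at this
        have hc1 := habL _ x.2 _ hy'
        have hx' : (x : G) * at' * (x : G)⁻¹ * at'⁻¹ ∈ Lt := by
          have := mul_mem x.2 (hnorm _ (inv_mem x.2))
          rwa [← mul_assoc, ← mul_assoc] at this
        have hc2 := habL _ hx' _ hy'
        show ((x : G) * y) * at' * ((x : G) * y)⁻¹ * at'⁻¹ =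
          (x : G) * at' * (x : G)⁻¹ * at'⁻¹ * ((y : G) * at' * (y : G)⁻¹ * at'⁻¹)
        rw [hc2.eq]
        calc ((x : G) * y) * at' * ((x : G) * y)⁻¹ * at'⁻¹
            = (x : G) * ((y : G) * at' * (y : G)⁻¹ * at'⁻¹) * (at' * (x : G)⁻¹ * at'⁻¹) := by group
          _ = ((y : G) * at' * (y : G)⁻¹ * at'⁻¹) * (x : G) * (at' * (x : G)⁻¹ * at'⁻¹) := by rw [hc1.eq]
          _ = _ := by group }
  have hMZ : ∀ x ∈ φ.range, x ∈ center G → x = 1 := by
    rintro _ ⟨⟨x, hx⟩, rfl⟩ hxZ
    change x * at' * x⁻¹ * at'⁻¹ = 1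
    change x * at' * x⁻¹ * at'⁻¹ ∈ center G at hxZ
    have e1 := (QuotientGroup.eq_one_iff _).2 hxZ
    simp only [QuotientGroup.mk_mul, QuotientGroup.mk_inv] at e1
    have e2 : (x : G ⧸ center G) * x = 1 := by
      have e := Fr.inv _ (inv_mem hx : (x : G ⧸ center G)⁻¹ ∈ L)
      rw [inv_inv] at e
      simp only [QuotientGroup.mk'_apply] at e
      calc (x : G ⧸ center G) * x = x * ((at' : G ⧸ center G) * (x : G ⧸ center G)⁻¹ * (at' : G ⧸ center G)⁻¹) := by rw [e]
        _ = (x : G ⧸ center G) * at' * (x : G ⧸ center G)⁻¹ * (at' : G ⧸ center G)⁻¹ := by group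
        _ = 1 := e1
    have hcomm : Commute x at' := by
      rcases Fr.uniq _ hx e2 with e | e
      · have hxc := (QuotientGroup.eq_one_iff x).1 e
        exact (mem_center_iff.1 hxc at').symm
      · have hza : at' ∈ centralizer ({zt} : Set G) := by
          rw [← hztp, mem_pre, hztm]
          exact mem_cent.1 ((Fr.centz _).2 (.inr (by rw [QuotientGroup.mk'_apply, inv_mul_cancel]; exact one_mem L)))
        have hd : zt⁻¹ * x ∈ center G := by
          rw [← QuotientGroup.eq_one_iff, QuotientGroup.mk_mul, QuotientGroup.mk_inv, hztm]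
          exact inv_mul_eq_one.2 e.symm
        have : x = zt * (zt⁻¹ * x) := (mul_inv_cancel_left _ _).symm
        rw [this]
        exact Commute.mul_left (mem_cent.1 hza).symm (mem_center_iff.1 hd at').symm
    rw [hcomm.eq, mul_inv_cancel_right, mul_inv_cancel]
  have hH : ∀ x ∈ pre zt, x ∈ Lt ∨ ∃ y ∈ Lt, x = y * at' := by
    intro x hx
    have hm : (x : G ⧸ center G) ∈ centralizer ({z} : Set (G ⧸ center G)) := by
      rw [← hztm]; exact mem_cent.2 (mem_pre.1 hx)
    rcases (Fr.centz _).1 hm with h | h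
    · exact .inl h
    · refine .inr ⟨x * at'⁻¹, ?_, (inv_mul_cancel_right x at').symm⟩
      have : x * at'⁻¹ = at' * (at'⁻¹ * x) * at'⁻¹ := by group
      rw [this]
      exact hnorm _ h
  have hφ : ∀ y (hy : y ∈ Lt), y * at' * y⁻¹ * at'⁻¹ ∈ φ.range := fun y hy => ⟨⟨y, hy⟩, rfl⟩
  have hcomm : ⁅pre zt, pre zt⁆ ≤ φ.range := by
    refine commutator_le.2 fun x hx y hy => ?_
    rcases hH x hx with hx' | ⟨x', hx', rfl⟩ <;> rcases hH y hy with hy' | ⟨y', hy', rfl⟩
    · rw [(commutatorElement_eq_one_iff_commute.2 (habL x hx' y hy'))]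
      exact one_mem _
    · have e : ⁅x, y' * at'⁆ = x * at' * x⁻¹ * at'⁻¹ := by
        rw [commutatorElement_def]
        calc x * (y' * at') * x⁻¹ * (y' * at')⁻¹ = (x * y') * at' * x⁻¹ * at'⁻¹ * y'⁻¹ := by group
          _ = (y' * x) * at' * x⁻¹ * at'⁻¹ * y'⁻¹ := by rw [(habL x hx' y' hy').eq]
          _ = (y' * (x * at' * x⁻¹ * at'⁻¹)) * y'⁻¹ := by group
          _ = (x * at' * x⁻¹ * at'⁻¹ * y') * y'⁻¹ := by
            rw [(habL y' hy' _ (by
              have := mul_mem hx' (hnorm _ (inv_mem hx'))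
              rwa [← mul_assoc, ← mul_assoc] at this)).eq]
          _ = _ := by group
      rw [e]; exact hφ x hx'
    · have e : ⁅x' * at', y⁆ = (y * at' * y⁻¹ * at'⁻¹)⁻¹ := by
        rw [commutatorElement_def]
        calc x' * at' * y * (x' * at')⁻¹ * y⁻¹ = x' * (at' * y * at'⁻¹) * x'⁻¹ * y⁻¹ := by group
          _ = (at' * y * at'⁻¹) * x' * x'⁻¹ * y⁻¹ := by rw [(habL x' hx' _ (hnorm y hy')).eq]
          _ = _ := by group
      rw [e]; exact inv_mem (hφ y hy')
    · have hw := mul_mem hx' (inv_mem hy')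
      have e : ⁅x' * at', y' * at'⁆ = (x' * y'⁻¹) * at' * (x' * y'⁻¹)⁻¹ * at'⁻¹ := by
        rw [commutatorElement_def]
        have hc1 : x' * (at' * (y' * x'⁻¹) * at'⁻¹) = (at' * (y' * x'⁻¹) * at'⁻¹) * x' :=
          (habL x' hx' _ (hnorm _ (mul_mem hy' (inv_mem hx')))).eq
        have hc2 : (x' * y'⁻¹) * (at' * (y' * x'⁻¹) * at'⁻¹) = (at' * (y' * x'⁻¹) * at'⁻¹) * (x' * y'⁻¹) :=
          (habL _ hw _ (hnorm _ (mul_mem hy' (inv_mem hx')))).eq
        calc x' * at' * (y' * at') * (x' * at')⁻¹ * (y' * at')⁻¹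
            = x' * (at' * (y' * x'⁻¹) * at'⁻¹) * y'⁻¹ := by group
          _ = (at' * (y' * x'⁻¹) * at'⁻¹) * (x' * y'⁻¹) := by rw [hc1]; group
          _ = _ := by rw [← hc2]; group
      rw [e]; exact hφ _ hw
  have hqk' : c ^ (q * k) = 1 := by
    have hidx : (pre zt).index = q * k := by rw [hztp]; exact hcs
    have h1 := pow_index_mem_commutator (H := pre zt) hc hc'
    rw [hidx, _root_.commutator_def, map_commutator, ← MonoidHom.range_eq_map, range_subtype] at h1
    exact hMZ _ (hcomm h1) (pow_mem hc _)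
  refine eq_one_of_pows h0 hT hqk' ?_
  intro s hs a b c
  rcases hs.dvd_mul.1 c with c | c
  · exact hs.ne_one (Nat.eq_one_of_dvd_coprimes cq0 c a)
  · exact hs.ne_one (Nat.eq_one_of_dvd_coprimes cqT c b)

end OddData

/-- From the list of class sizes of `PSL(2,q)`. -/
theorem oddData_of_range {F : Type*} [Field F] [Fintype F] (hodd : ¬ 2 ∣ Fintype.card F)
    (h7 : 7 ≤ Fintype.card F) {G : Type u} [Group G]
    (h : Set.range (fun g : G => cs g) = Set.range (fun g : Matrix.ProjectiveSpecialLinearGroup (Fin 2) F => cs g)) :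
    ∃ a b : ℕ, OddData G (Fintype.card F) a b := by
  have hq' : Odd (Fintype.card F) := Nat.not_even_iff_odd.1 (fun he => hodd he.two_dvd)
  obtain ⟨h1, h3⟩ := Cfsg.Lib.GLTwo.odd_range hq' h7
  have hr : Set.range (fun g : G => cs g) = Set.range (Cfsg.Lib.GLTwo.clsSize (F := F)) :=
    h.trans Cfsg.Lib.GLTwo.range_eq
  obtain ⟨j, hj⟩ := id hq'
  have hp : ∃ p a : ℕ, p.Prime ∧ Fintype.card F = p ^ a := by
    obtain ⟨p, hp⟩ := CharP.exists F
    haveI := Fact.mk (CharP.char_is_prime F p)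
    obtain ⟨n, hn, e⟩ := FiniteField.card F p
    exact ⟨p, n, hn, e⟩
  set q := Fintype.card F with hqdef
  obtain ⟨r, hr'⟩ : ∃ r, q = r + 1 := ⟨q - 1, by omega⟩
  rcases Nat.even_or_odd j with ⟨i, hi⟩ | ⟨i, hi⟩
  · refine ⟨j, j + 1, by omega, .inl rfl, ⟨i, hi⟩, by omega, hp, ?_⟩
    rw [hr, h1 (by omega)]
    have a1 : (q ^ 2 - 1) / 2 = 2 * j * (j + 1) := by
      rw [hj, show (2 * j + 1) ^ 2 = 2 * (2 * j * (j + 1)) + 1 by ring, Nat.add_sub_cancel,
        Nat.mul_div_cancel_left _ two_pos]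
    have a2 : q * (q + 1) / 2 = q * (j + 1) := by
      rw [show q * (q + 1) = 2 * (q * (j + 1)) by rw [hj]; ring, Nat.mul_div_cancel_left _ two_pos]
    have a3 : q * (q - 1) = 2 * q * j := by
      rw [show q - 1 = 2 * j by omega]; ring
    have a4 : q * (q + 1) = 2 * (q * (j + 1)) := by rw [hj]; ring
    rw [a1, a2, a3, a4]
    ext n; simp only [Set.mem_insert_iff, Set.mem_singleton_iff]; tauto
  · refine ⟨j + 1, j, by omega, .inr rfl, ⟨i + 1, by omega⟩, by omega, hp, ?_⟩
    rw [hr, h3 (by omega)]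
    have a1 : (q ^ 2 - 1) / 2 = 2 * (j + 1) * j := by
      rw [hj, show (2 * j + 1) ^ 2 = 2 * (2 * (j + 1) * j) + 1 by ring, Nat.add_sub_cancel,
        Nat.mul_div_cancel_left _ two_pos]
    have a2 : q * (q - 1) / 2 = q * j := by
      rw [show q - 1 = 2 * j by omega, show q * (2 * j) = 2 * (q * j) by ring,
        Nat.mul_div_cancel_left _ two_pos]
    have a3 : q * (q + 1) = 2 * q * (j + 1) := by rw [hj]; ring
    have a4 : q * (q - 1) = 2 * (q * j) := by
      rw [show q - 1 = 2 * j by omega]; ring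
    rw [a1, a2, a3, a4]
    ext n; simp only [Set.mem_insert_iff, Set.mem_singleton_iff]; tauto

end Cfsg.Lib.ClassSizePSL
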