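import Cfsg.Agent.ClassSizePSL.OddBSW
import Cfsg.Agent.S3282
import Cfsg.Agent.PSLOrderSpec.Action

/-!
# Class sizes of `PSL(2,q)`, `q` odd: the central quotient is `PSL(2,q)`
-/

set_option autoImplicit false
set_option linter.unusedSectionVars false
set_option linter.style.haveILetI false

namespace Cfsg.Lib.ClassSizePSL.OddQ

open Subgroup Cfsg.Lib.ClassSize Cfsg.Lib.ClassSizePSL

universe u

variable {P : Type u} [Group P] [Finite P] {q h k : ℕ}

theorem cube_inj {a b : ℕ} (ha : 1 ≤ a) (hb : 1 ≤ b)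
    (e : a * (a + 1) * (a - 1) = b * (b + 1) * (b - 1)) : a = b := by
  rcases lt_trichotomy a b with h | h | h
  · exfalso
    have := Nat.mul_lt_mul_of_lt_of_le
      (Nat.mul_lt_mul_of_lt_of_le h (show a + 1 ≤ b + 1 by omega) (by omega))
      (show a - 1 ≤ b - 1 by omega) (by omega)
    omega
  · exact h
  · exfalso
    have := Nat.mul_lt_mul_of_lt_of_le
      (Nat.mul_lt_mul_of_lt_of_le h (show b + 1 ≤ a + 1 by omega) (by omega))
      (show b - 1 ≤ a - 1 by omega) (by omega)
    omega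

theorem card_sup_of_inf_eq_bot {A B : Subgroup P} (hB : B ≤ normalizer (A : Set P)) (h : A ⊓ B = ⊥) :
    Nat.card (A ⊔ B : Subgroup P) = Nat.card A * Nat.card B := by
  rw [← Nat.card_prod]
  refine (Nat.card_eq_of_bijective
    (fun x : A × B => (⟨x.1 * x.2, mul_mem (mem_sup_left x.1.2) (mem_sup_right x.2.2)⟩ :
      (A ⊔ B : Subgroup P))) ⟨fun x y e => ?_, fun y => ?_⟩).symm
  · exact mul_injective_of_disjoint (disjoint_iff.2 h) (congrArg Subtype.val e)
  · have hy : (y : P) ∈ (↑(A ⊔ B) : Set P) := y.2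
    rw [coe_mul_of_right_le_normalizer_left A B hB] at hy
    obtain ⟨x, hx, w, hw, e⟩ := hy
    exact ⟨(⟨x, hx⟩, ⟨w, hw⟩), Subtype.ext e⟩

namespace Hyp

variable (H : Hyp P q h k)
include H

theorem concl : ∃ Q D : Subgroup P, Nat.card Q = q ∧
    (∀ x ∈ Q, x ≠ 1 → centralizer ({x} : Set P) = Q) ∧
    2 * Nat.card D + 1 = q ∧ Q ⊓ D = ⊥ ∧ normalizer (Q : Set P) = Q ⊔ D ∧
    (∀ Y : Subgroup P, Y ≤ D → Y ≠ ⊥ → normalizer (Y : Set P) = normalizer (D : Set P) ∧
      ∃ u : P, orderOf u = 2 ∧ u ∉ D ∧ (∀ d ∈ D, u * d * u⁻¹ = d⁻¹) ∧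
        normalizer (D : Set P) = D ⊔ zpowers u) := by
  obtain ⟨z, a, L, F⟩ := H.exists_frame
  have hLC : L ≤ centralizer ({z} : Set P) := fun x hx => (F.centz x).2 (.inl hx)
  have haC : a ∈ centralizer ({z} : Set P) := (F.centz a).2 (.inr (by rw [inv_mul_cancel]; exact one_mem L))
  have hsup : L ⊔ zpowers a = centralizer ({z} : Set P) := by
    refine le_antisymm (sup_le hLC (zpowers_le.2 haC)) fun x hx => ?_
    rcases (F.centz x).1 hx with h | h
    · exact mem_sup_left h
    · rw [← mul_inv_cancel_left a x]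
      exact mul_mem (mem_sup_right (mem_zpowers a)) (mem_sup_left h)
  have hinv : ∀ x ∈ L, x * a = a * x⁻¹ := fun x hx => by
    have e := F.inv x hx
    rw [← e, inv_eq_of_mul_eq_one_left (mul_self_of_orderOf F.ha), ← mul_assoc, ← mul_assoc,
      mul_self_of_orderOf F.ha, one_mul]
  have hCK : L ⊓ centralizer ({a} : Set P) = zpowers z := by
    refine le_antisymm (fun x hx => ?_) (zpowers_le.2 ⟨F.zL, mem_cent.2 ?_⟩)
    · have e : x * x = 1 := by
        have e1 := mem_cent.1 hx.2
        have e2 : a * x = a * x⁻¹ := e1.eq.symm.trans (hinv x hx.1)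
        exact mul_eq_one_iff_eq_inv.2 (mul_left_cancel e2)
      rcases F.uniq x hx.1 e with rfl | rfl
      · exact one_mem _
      · exact mem_zpowers x
    · show z * a = a * z
      rw [hinv z F.zL, inv_eq_of_mul_eq_one_left (mul_self_of_orderOf F.hz)]
  have hTI : ∀ g : P, g ∉ centralizer ({z} : Set P) →
      L ⊓ L.map (MulAut.conj g).toMonoidHom = ⊥ := by
    intro g hg
    rw [eq_bot_iff_forall]
    rintro x ⟨hxL, y, hy, rfl⟩
    by_contra hne
    have hy1 : y ≠ 1 := fun e => hne (by rw [e]; exact map_one _)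
    refine hg ?_
    have key : g * z * g⁻¹ ∈ L := by
      by_cases hy2 : y * y = 1
      · rcases F.uniq y hy hy2 with rfl | rfl
        · exact absurd rfl hy1
        · exact hxL
      · have hx2 : g * y * g⁻¹ * (g * y * g⁻¹) ≠ 1 := fun e => hy2 (by
          calc y * y = g⁻¹ * (g * y * g⁻¹ * (g * y * g⁻¹)) * g := by group
            _ = 1 := by rw [e]; group)
        have e : centralizer ({g * y * g⁻¹} : Set P) = L := F.centL _ hxL hx2
        rw [cent_conj, F.centL y hy hy2] at e
        exact e ▸ mem_map_of_mem (MulAut.conj g).toMonoidHom F.zL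
    rcases F.uniq _ key (by
      rw [show g * z * g⁻¹ * (g * z * g⁻¹) = g * (z * z) * g⁻¹ by group, mul_self_of_orderOf F.hz,
        mul_one, mul_inv_cancel]) with e | e
    · have := F.hz
      rw [show z = 1 from conj_eq_one_iff.1 e, orderOf_one] at this
      omega
    · exact mem_cent.2 (mul_inv_eq_iff_eq_mul.1 e)
  obtain ⟨Q, D, hcard, hC, -, hD, hQD, hN, hX⟩ := Cfsg.Agent.S3282.result z F.hz L
    ⟨⟨fun x y => Subtype.ext (F.ab x x.2 y y.2)⟩⟩ hLC F.zL a F.ha haC F.aL hsup hCK F.inv hTI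
    (fun x y hx hy => (F.conj x hx).trans (F.conj y hy).symm)
  have hq : Nat.card Q = q := by
    refine cube_inj Nat.card_pos (by have := H.h4; have := H.sum; omega) ?_
    rw [← hcard, H.card]
    have h1 := H.h4
    obtain ⟨v, hv⟩ : ∃ v, q = v + 1 := ⟨q - 1, by have := H.sum; omega⟩
    rw [hv, Nat.add_sub_cancel, show (v + 1) * (v + 1 + 1) * v = (v + 1) * (v * (v + 2)) by ring,
      show 2 * (2 * (v + 1) * h * k) = (v + 1) * (4 * (h * k)) by ring]
    congr 1
    have e := H.qq
    rw [hv] at e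
    refine Nat.add_right_cancel (m := 1) ?_
    rw [← e]; ring
  exact ⟨Q, D, hq, hC, hq ▸ hD, hQD, hN, hX⟩

theorem isSimple_and_psl : IsSimpleGroup P ∧
    (∀ x : P, cc x = q → ∀ a ∈ centralizer ({x} : Set P), ∀ b ∈ centralizer ({x} : Set P), Commute a b) ∧
    ∃ (F : Type) (_ : Field F) (_ : Fintype F), Fintype.card F = q ∧
      Nonempty (P ≃* Matrix.ProjectiveSpecialLinearGroup (Fin 2) F) := by
  obtain ⟨Q, D, hQ, hC, hD, hQD, hN, hX⟩ := H.concl
  obtain ⟨z, a, L, Fr⟩ := H.exists_frame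
  obtain ⟨p, e, hp, hpe⟩ := H.qpow
  have h4 := H.h4
  have k3 := H.k3
  have hsum := H.sum
  haveI := Fact.mk hp
  have hQp : IsPGroup p Q := IsPGroup.of_card (hQ.trans hpe)
  have hQi : Q.index = 2 * h * k := by
    refine Nat.eq_of_mul_eq_mul_left (show 0 < q by omega) ?_
    nth_rw 1 [← hQ]
    rw [card_mul_index, H.card]
    ring
  have hpd : p ∣ q := hpe ▸ dvd_pow_self p (fun e0 => by rw [e0, pow_zero] at hpe; omega)
  have hQnd : ¬ p ∣ Q.index := fun hd => hp.ne_one (Nat.eq_one_of_dvd_coprimes H.cop_q2hk hpd (hQi ▸ hd))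
  set SQ : Sylow p P := hQp.toSylow hQnd with hSQdef
  have hSQ : (SQ : Subgroup P) = Q := by rw [hSQdef, IsPGroup.toSylow_coe]
  have hQab : ∀ x ∈ Q, ∀ y ∈ Q, Commute x y := fun x hx y hy => by
    by_cases hy1 : y = 1
    · rw [hy1]; exact Commute.one_right x
    · exact mem_cent.1 ((hC y hy hy1).symm ▸ hx)
  have hab : ∀ x : P, cc x = q →
      ∀ a ∈ centralizer ({x} : Set P), ∀ b ∈ centralizer ({x} : Set P), Commute a b := by
    intro x hx
    obtain ⟨U, hU⟩ := (IsPGroup.of_card (p := p) (n := e) (hx.trans hpe) :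
      IsPGroup p (centralizer ({x} : Set P))).exists_le_sylow
    obtain ⟨g, hg⟩ := MulAction.exists_smul_eq P SQ U
    intro a ha b hb
    have key : ∀ y ∈ (U : Subgroup P), ∃ y' ∈ Q, g * y' * g⁻¹ = y := by
      intro y hy
      rw [← hg, Sylow.coe_subgroup_smul, hSQ] at hy
      obtain ⟨y', hy', rfl⟩ := hy
      exact ⟨y', hy', rfl⟩
    obtain ⟨a', ha', rfl⟩ := key a (hU ha)
    obtain ⟨b', hb', rfl⟩ := key b (hU hb)
    exact (hQab a' ha' b' hb').map (MulAut.conj g).toMonoidHom
  have hD1 : D ≠ ⊥ := by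
    intro e
    rw [e, card_bot] at hD
    omega
  have hfix : ∀ x ∈ Q, x ≠ 1 → ∀ d ∈ D, d * x = x * d → d = 1 := fun x hx hx1 d hd e => by
    have : d ∈ Q ⊓ D := ⟨(hC x hx hx1) ▸ mem_cent.2 e, hd⟩
    rwa [hQD, mem_bot] at this
  haveI : Nontrivial P := Finite.one_lt_card_iff_nontrivial.1 (by have := H.h2_lt; omega)
  have hsimple : ∀ N : Subgroup P, N.Normal → N ≠ ⊥ → N = ⊤ := by
    intro N hNn hN1
    haveI := hNn
    have hIN : 2 ∣ Nat.card N → ∀ x : P, orderOf x = 2 → x ∈ N := fun h2 x hx => by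
      haveI : Fact (Nat.Prime 2) := ⟨Nat.prime_two⟩
      obtain ⟨⟨i, hi⟩, ho⟩ := exists_prime_orderOf_dvd_card' (G := N) 2 h2
      rw [orderOf_mk] at ho
      obtain ⟨c, hc⟩ := isConj_iff.1 ((Fr.conj i ho).trans (Fr.conj x hx).symm)
      exact hc ▸ hNn.conj_mem i hi c
    -- `N` meets `Q`
    have hmeet : Q ⊓ N ≠ ⊥ := by
      intro hbot
      have hpN : ¬ p ∣ Nat.card N := by
        intro hd
        obtain ⟨⟨i, hi⟩, ho⟩ := exists_prime_orderOf_dvd_card' (G := N) p hd
        rw [orderOf_mk] at ho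
        obtain ⟨c, hc⟩ := exists_conj_mem hp hQnd (g := i) ⟨1, by rw [pow_one, ho]⟩
        have h1 : c * i * c⁻¹ ∈ Q ⊓ N := ⟨hc, hNn.conj_mem i hi c⟩
        rw [hbot, mem_bot, conj_eq_one_iff] at h1
        rw [h1, orderOf_one] at ho
        exact hp.ne_one ho.symm
      -- `Q` acts on the non-identity elements of `N` without fixed points
      letI : MulAction Q {x : P // x ∈ N ∧ x ≠ 1} :=
        { smul := fun g x => ⟨(g : P) * x * (g : P)⁻¹, hNn.conj_mem _ x.2.1 _,
            fun e => x.2.2 (conj_eq_one_iff.1 e)⟩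
          one_smul := fun x => Subtype.ext (show (1 : P) * x * (1 : P)⁻¹ = x by group)
          mul_smul := fun g l x => Subtype.ext
            (show (g : P) * l * x * ((g : P) * l)⁻¹ = g * (l * x * (l : P)⁻¹) * (g : P)⁻¹ by group) }
      have hfree : ∀ x : {x : P // x ∈ N ∧ x ≠ 1}, MulAction.stabilizer Q x = ⊥ := by
        intro x
        rw [eq_bot_iff_forall]
        intro g hg
        have e : (g : P) * x * (g : P)⁻¹ = x := congrArg Subtype.val (MulAction.mem_stabilizer_iff.1 hg)
        by_contra hne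
        have hxc : (x : P) ∈ Q := (hC g g.2 (fun e1 => hne (Subtype.ext e1))) ▸
          mem_cent.2 (mul_inv_eq_iff_eq_mul.1 e).symm
        have : (x : P) ∈ Q ⊓ N := ⟨hxc, x.2.1⟩
        rw [hbot, mem_bot] at this
        exact x.2.2 this
      haveI := Fintype.ofFinite {x : P // x ∈ N ∧ x ≠ 1}
      haveI := Fintype.ofFinite (MulAction.orbitRel.Quotient Q {x : P // x ∈ N ∧ x ≠ 1})
      have hdvd : q ∣ Nat.card {x : P // x ∈ N ∧ x ≠ 1} := by
        rw [Nat.card_congr (MulAction.selfEquivSigmaOrbits Q {x : P // x ∈ N ∧ x ≠ 1}), Nat.card_sigma]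
        refine Finset.dvd_sum fun ω _ => ?_
        rw [Nat.card_congr (MulAction.orbitEquivQuotientStabilizer Q _), hfree, ← Subgroup.index,
          index_bot, hQ]
      have hNc : Nat.card {x : P // x ∈ N ∧ x ≠ 1} + 1 = Nat.card N := by
        rw [show Nat.card {x : P // x ∈ N ∧ x ≠ 1} = ((N : Set P) \ {1}).ncard from Nat.card_coe_set_eq _,
          Set.ncard_sdiff_singleton_add_one (show (1 : P) ∈ (N : Set P) from one_mem N) (Set.toFinite _)]
        rfl
      obtain ⟨i, hi⟩ := hdvd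
      rw [hi] at hNc
      obtain ⟨c, hc⟩ := card_subgroup_dvd_card N
      rw [H.card, show 2 * q * h * k = q * (2 * h * k) by ring] at hc
      have hcopN : (Nat.card N).Coprime q :=
        hpe.symm ▸ ((hp.coprime_iff_not_dvd.2 hpN).symm.pow_right e)
      obtain ⟨e', he'⟩ := hcopN.dvd_of_dvd_mul_left (⟨c, hc⟩ : Nat.card N ∣ q * (2 * h * k))
      rw [← hNc] at he'
      have h2e : q ∣ 2 * e' + 1 := by
        refine (Nat.dvd_add_right (b := q * (2 * i * e')) (dvd_mul_right _ _)).1 ?_
        rw [show q * (2 * i * e') + (2 * e' + 1) = 2 * ((q * i + 1) * e') + 1 by ring, ← he',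
          show 2 * (2 * h * k) + 1 = 4 * (h * k) + 1 by ring, ← H.qq]
        exact dvd_mul_right q q
      have hle := Nat.le_of_dvd (by omega) h2e
      have hi1 : i = 1 := by
        rcases Nat.eq_zero_or_pos i with rfl | hip
        · exfalso; exact hN1 (Subgroup.card_eq_one.1 (by omega))
        · by_contra hne
          have h5 : 2 * q + 1 ≤ q * i + 1 := by
            rw [mul_comm 2]; exact Nat.succ_le_succ (Nat.mul_le_mul_left q (by omega))
          have h6 := Nat.mul_le_mul h5 hle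
          have h7 := H.qq
          obtain ⟨j, hj⟩ := H.q_odd
          nlinarith
      subst hi1
      rw [mul_one] at hNc
      have h2 : 2 ∣ Nat.card N := by
        obtain ⟨j, hj⟩ := H.q_odd
        exact ⟨j + 1, by omega⟩
      have hsub : {x : P | orderOf x = 2} ⊆ ((N : Set P) \ {1}) := fun x hx =>
        ⟨hIN h2 x hx, fun e => by
          rw [Set.mem_singleton_iff] at e
          rw [Set.mem_setOf_eq, e, orderOf_one] at hx
          omega⟩
      have hle' := Set.ncard_le_ncard hsub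
      rw [Fr.ninv, Set.ncard_sdiff_singleton_of_mem (show (1 : P) ∈ (N : Set P) from one_mem N),
        ← Nat.card_coe_set_eq] at hle'
      change _ ≤ Nat.card N - 1 at hle'
      have : q * 3 ≤ q * k := Nat.mul_le_mul_left q k3
      omega
    -- `Q ≤ N`
    have hQN : Q ≤ N := by
      rw [← inf_eq_left]
      refine eq_of_le_of_card_ge inf_le_left ?_
      letI : MulAction D {x : P // x ∈ Q ⊓ N ∧ x ≠ 1} :=
        { smul := fun g x => ⟨(g : P) * x * (g : P)⁻¹,
            ⟨(mem_normalizer_iff.1 (hN.symm ▸ mem_sup_right g.2 : (g : P) ∈ normalizer (Q : Set P)) _).1 x.2.1.1,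
              hNn.conj_mem _ x.2.1.2 _⟩,
            fun e => x.2.2 (conj_eq_one_iff.1 e)⟩
          one_smul := fun x => Subtype.ext (show (1 : P) * x * (1 : P)⁻¹ = x by group)
          mul_smul := fun g l x => Subtype.ext
            (show (g : P) * l * x * ((g : P) * l)⁻¹ = g * (l * x * (l : P)⁻¹) * (g : P)⁻¹ by group) }
      have hfree : ∀ x : {x : P // x ∈ Q ⊓ N ∧ x ≠ 1}, MulAction.stabilizer D x = ⊥ := by
        intro x
        rw [eq_bot_iff_forall]
        intro g hg
        have e : (g : P) * x * (g : P)⁻¹ = x := congrArg Subtype.val (MulAction.mem_stabilizer_iff.1 hg)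
        exact Subtype.ext (hfix x x.2.1.1 x.2.2 g g.2 (mul_inv_eq_iff_eq_mul.1 e))
      haveI := Fintype.ofFinite {x : P // x ∈ Q ⊓ N ∧ x ≠ 1}
      haveI := Fintype.ofFinite (MulAction.orbitRel.Quotient D {x : P // x ∈ Q ⊓ N ∧ x ≠ 1})
      have hdvd : Nat.card D ∣ Nat.card {x : P // x ∈ Q ⊓ N ∧ x ≠ 1} := by
        rw [Nat.card_congr (MulAction.selfEquivSigmaOrbits D {x : P // x ∈ Q ⊓ N ∧ x ≠ 1}), Nat.card_sigma]
        refine Finset.dvd_sum fun ω _ => ?_
        rw [Nat.card_congr (MulAction.orbitEquivQuotientStabilizer D _), hfree, ← Subgroup.index,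
          index_bot]
      have hc : Nat.card {x : P // x ∈ Q ⊓ N ∧ x ≠ 1} + 1 = Nat.card (Q ⊓ N : Subgroup P) := by
        rw [show Nat.card {x : P // x ∈ Q ⊓ N ∧ x ≠ 1} = (((Q ⊓ N : Subgroup P) : Set P) \ {1}).ncard from
            Nat.card_coe_set_eq _,
          Set.ncard_sdiff_singleton_add_one
            (show (1 : P) ∈ ((Q ⊓ N : Subgroup P) : Set P) from one_mem _) (Set.toFinite _)]
        rfl
      obtain ⟨t, ht⟩ := card_dvd_of_le (inf_le_left : Q ⊓ N ≤ Q)
      rw [hQ] at ht
      rw [hQ]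
      have hpos : Nat.card (Q ⊓ N : Subgroup P) ≠ 1 := fun e => hmeet (Subgroup.card_eq_one.1 e)
      have hDle := Nat.le_of_dvd (by omega) hdvd
      by_contra hlt
      have htodd : Odd t := H.q_odd.of_dvd_nat ⟨_, by rw [mul_comm]; exact ht⟩
      obtain ⟨j, hj⟩ := htodd
      rcases Nat.eq_zero_or_pos j with rfl | hjp
      · rw [hj] at ht; omega
      · have := Nat.mul_le_mul_left (Nat.card (Q ⊓ N : Subgroup P)) (show 3 ≤ t by omega)
        omega
    -- `N · N(Q) = P` and the number of conjugates of `Q` is even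
    have hfr : N ⊔ normalizer (Q : Set P) = ⊤ := by
      rw [sup_comm, ← hSQ]
      exact Sylow.normalizer_sup_eq_top' SQ (hSQ ▸ hQN)
    have hDcard : 0 < Nat.card D := Nat.card_pos
    have hNQc : Nat.card (normalizer (Q : Set P)) = q * Nat.card D := by
      have hDN : D ≤ normalizer (Q : Set P) := hN.symm ▸ le_sup_right
      rw [hN, ← hQ]
      exact card_sup_of_inf_eq_bot hDN hQD
    have hidx : (normalizer (Q : Set P)).index = q + 1 := by
      refine Nat.eq_of_mul_eq_mul_left (show 0 < q * Nat.card D from Nat.mul_pos (by omega) hDcard) ?_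
      nth_rw 1 [← hNQc]
      rw [card_mul_index, H.card]
      have e := H.qq
      rw [← hD] at e ⊢
      nlinarith
    have h2 : 2 ∣ Nat.card N := by
      have h1 : 2 ∣ (normalizer (Q : Set P)).index := by
        obtain ⟨j, hj⟩ := H.q_odd
        exact ⟨j + 1, by omega⟩
      refine h1.trans ?_
      set H' := normalizer (Q : Set P) with hH'
      let f : N ⧸ H'.subgroupOf N → P ⧸ H' := Quotient.lift (fun n : N => ((n : P) : P ⧸ H'))
        fun x y hxy => QuotientGroup.eq.mpr (by
          simpa [mem_subgroupOf] using QuotientGroup.leftRel_apply.mp hxy)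
      have hf : Function.Bijective f := by
        refine ⟨fun x y => ?_, fun y => ?_⟩
        · induction x using Quotient.inductionOn' with
          | _ x =>
            induction y using Quotient.inductionOn' with
            | _ y =>
              intro e
              refine Quotient.sound' (QuotientGroup.leftRel_apply.mpr ?_)
              rw [mem_subgroupOf, coe_mul, coe_inv]
              exact QuotientGroup.eq.mp e
        · induction y using QuotientGroup.induction_on with
          | _ g =>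
            have hg : g ∈ (↑(N ⊔ H') : Set P) := by rw [hfr]; exact mem_top g
            rw [normal_mul] at hg
            obtain ⟨n, hn, w, hw, rfl⟩ := hg
            exact ⟨((⟨n, hn⟩ : N) : N ⧸ H'.subgroupOf N), QuotientGroup.eq.mpr (by simpa using hw)⟩
      rw [Subgroup.index, ← Nat.card_eq_of_bijective f hf, ← Subgroup.index]
      exact index_dvd_card _
    have hDN : D ≤ N := by
      intro d hd
      obtain ⟨-, u, hu, huD, huinv, -⟩ := hX D le_rfl hD1
      have hud : orderOf (u * d) = 2 := by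
        refine orderOf_eq_prime ?_ fun e => huD ?_
        · rw [pow_two]
          calc u * d * (u * d) = u * d * u⁻¹ * (u * u) * d := by group
            _ = 1 := by rw [huinv d hd, mul_self_of_orderOf hu, mul_one, inv_mul_cancel]
        · rw [eq_inv_of_mul_eq_one_left e]
          exact inv_mem hd
      rw [← inv_mul_cancel_left u d]
      exact mul_mem (inv_mem (hIN h2 u hu)) (hIN h2 _ hud)
    rw [← hfr, hN]
    exact le_antisymm le_sup_left (sup_le le_rfl (sup_le hQN hDN))
  haveI : IsSimpleGroup P := ⟨fun N hN => or_iff_not_imp_left.2 (hsimple N hN)⟩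
  obtain ⟨F, iF, iFt, hF, he⟩ := Cfsg.Lib.PSLOrderSpec.psl_of_concl Q D (by
    rw [hQ, H.card]
    obtain ⟨v, hv⟩ : ∃ v, q = v + 1 := ⟨q - 1, by omega⟩
    have e := H.qq
    rw [hv] at e ⊢
    rw [Nat.add_sub_cancel]
    nlinarith) hC (hD.trans hQ.symm) hD1 hQD hN hX
  exact ⟨inferInstance, hab, F, iF, iFt, hF.trans hQ, he⟩

end Hyp

end Cfsg.Lib.ClassSizePSL.OddQ
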